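import Cfsg.Agent.Lib.Chevalley.Graph.Signs
import Cfsg.Agent.Lib.Chevalley.Tbl.E6Cols

/-! Generated: diagram automorphisms of type E6. -/

set_option autoImplicit false
set_option maxRecDepth 1000000

namespace Cfsg.Agent.Lib.Chevalley.Tbl.E6

open Cfsg.Lie Cfsg.Agent.Lib.Chevalley.Reflect Cfsg.Agent.Lib.Chevalley.Comm Cfsg.Agent.Lib.Chevalley.Graph

noncomputable section

namespace P0

def fT : Tr Vc := (.node 39 [⟨39, (Int.ofNat 1), 0, 0⟩] (.node 19 [⟨19, (Int.ofNat 1), 0, 0⟩] (.node 9 [⟨9, (Int.ofNat 1), 0, 0⟩] (.node 4 [⟨4, (Int.ofNat 1), 0, 0⟩] (.node 2 [⟨2, (Int.ofNat 1), 0, 0⟩] (.node 1 [⟨1, (Int.ofNat 1), 0, 0⟩] (.node 0 [⟨0, (Int.ofNat 1), 0, 0⟩] .nil .nil) .nil) (.node 3 [⟨3, (Int.ofNat 1), 0, 0⟩] .nil .nil)) (.node 7 [⟨7, (Int.ofNat 1), 0, 0⟩] (.node 6 [⟨6, (Int.ofNat 1), 0, 0⟩] (.node 5 [⟨5, (Int.ofNat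 1), 0, 0⟩] .nil .nil) .nil) (.node 8 [⟨8, (Int.ofNat 1), 0, 0⟩] .nil .nil))) (.node 14 [⟨14, (Int.ofNat 1), 0, 0⟩] (.node 12 [⟨12, (Int.ofNat 1), 0, 0⟩] (.node 11 [⟨11, (Int.ofNat 1), 0, 0⟩] (.node 10 [⟨10, (Int.ofNat 1), 0, 0⟩] .nil .nil) .nil) (.node 13 [⟨13, (Int.ofNat 1), 0, 0⟩] .nil .nil)) (.node 17 [⟨17, (Int.ofNat 1), 0, 0⟩] (.node 16 [⟨16, (Int.ofNat 1), 0, 0⟩] (.node 15 [⟨15, (Int.ofNat 1), 0, 0⟩] .nil .nil) .nil) (.node 18 [⟨18, (Int.ofNat 1), 0, 0⟩] .nil .nil)))) (.node 29 [⟨29, (Int.ofNat 1), 0, 0⟩] (.node 24 [⟨24, (Int.ofNat 1), 0, 0⟩] (.node 22 [⟨22, (Int.ofNat 1), 0, 0⟩] (.node 21 [⟨21, (Int.ofNat 1), 0, 0⟩] (.node 20 [⟨20, (Int.ofNat 1), 0, 0⟩] .nil .nil) .nil) (.node 23 [⟨23, (Int.ofNat 1), 0, 0⟩] .nil .nil)) (.node 27 [⟨27, (Int.ofNat 1), 0, 0⟩] (.node 26 [⟨26, (Int.ofNat 1), 0, 0⟩] (.node 25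 [⟨25, (Int.ofNat 1), 0, 0⟩] .nil .nil) .nil) (.node 28 [⟨28, (Int.ofNat 1), 0, 0⟩] .nil .nil))) (.node 34 [⟨34, (Int.ofNat 1), 0, 0⟩] (.node 32 [⟨32, (Int.ofNat 1), 0, 0⟩] (.node 31 [⟨31, (Int.ofNat 1), 0, 0⟩] (.node 30 [⟨30, (Int.ofNat 1), 0, 0⟩] .nil .nil) .nil) (.node 33 [⟨33, (Int.ofNat 1), 0, 0⟩] .nil .nil)) (.node 37 [⟨37, (Int.ofNat 1), 0, 0⟩] (.node 36 [⟨36, (Int.ofNat 1), 0, 0⟩] (.node 35 [⟨35, (Int.ofNat 1), 0, 0⟩] .nil .nil) .nil) (.node 38 [⟨38, (Int.ofNat 1), 0, 0⟩] .nil .nil))))) (.node 59 [⟨59, (Int.ofNat 1), 0, 0⟩] (.node 49 [⟨49, (Int.ofNat 1), 0, 0⟩] (.node 44 [⟨44, (Int.ofNat 1), 0, 0⟩] (.node 42 [⟨42, (Int.ofNat 1), 0, 0⟩] (.node 41 [⟨41, (Int.ofNat 1), 0, 0⟩] (.node 40 [⟨40, (Int.ofNat 1), 0, 0⟩] .nil .nil) .nil) (.node 43 [⟨43, (Int.ofNat 1), 0, 0⟩] .nil .nil)) (.node 47 [⟨47, (Int.ofNat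 1), 0, 0⟩] (.node 46 [⟨46, (Int.ofNat 1), 0, 0⟩] (.node 45 [⟨45, (Int.ofNat 1), 0, 0⟩] .nil .nil) .nil) (.node 48 [⟨48, (Int.ofNat 1), 0, 0⟩] .nil .nil))) (.node 54 [⟨54, (Int.ofNat 1), 0, 0⟩] (.node 52 [⟨52, (Int.ofNat 1), 0, 0⟩] (.node 51 [⟨51, (Int.ofNat 1), 0, 0⟩] (.node 50 [⟨50, (Int.ofNat 1), 0, 0⟩] .nil .nil) .nil) (.node 53 [⟨53, (Int.ofNat 1), 0, 0⟩] .nil .nil)) (.node 57 [⟨57, (Int.ofNat 1), 0, 0⟩] (.node 56 [⟨56, (Int.ofNat 1), 0, 0⟩] (.node 55 [⟨55, (Int.ofNat 1), 0, 0⟩] .nil .nil) .nil) (.node 58 [⟨58, (Int.ofNat 1), 0, 0⟩] .nil .nil)))) (.node 69 [⟨69, (Int.ofNat 1), 0, 0⟩] (.node 64 [⟨64, (Int.ofNat 1), 0, 0⟩] (.node 62 [⟨62, (Int.ofNat 1), 0, 0⟩] (.node 61 [⟨61, (Int.ofNat 1), 0, 0⟩] (.node 60 [⟨60, (Int.ofNat 1), 0, 0⟩] .nil .nil) .nil) (.node 63 [⟨63, (Int.ofNat 1), 0, 0⟩] .nil .nil)) (.node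 67 [⟨67, (Int.ofNat 1), 0, 0⟩] (.node 66 [⟨66, (Int.ofNat 1), 0, 0⟩] (.node 65 [⟨65, (Int.ofNat 1), 0, 0⟩] .nil .nil) .nil) (.node 68 [⟨68, (Int.ofNat 1), 0, 0⟩] .nil .nil))) (.node 74 [⟨74, (Int.ofNat 1), 0, 0⟩] (.node 72 [⟨72, (Int.ofNat 1), 0, 0⟩] (.node 71 [⟨71, (Int.ofNat 1), 0, 0⟩] (.node 70 [⟨70, (Int.ofNat 1), 0, 0⟩] .nil .nil) .nil) (.node 73 [⟨73, (Int.ofNat 1), 0, 0⟩] .nil .nil)) (.node 76 [⟨76, (Int.ofNat 1), 0, 0⟩] (.node 75 [⟨75, (Int.ofNat 1), 0, 0⟩] .nil .nil) (.node 77 [⟨77, (Int.ofNat 1), 0, 0⟩] .nil .nil))))))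
def gT : Tr Vc := (.node 39 [⟨39, (Int.ofNat 1), 0, 0⟩] (.node 19 [⟨19, (Int.ofNat 1), 0, 0⟩] (.node 9 [⟨9, (Int.ofNat 1), 0, 0⟩] (.node 4 [⟨4, (Int.ofNat 1), 0, 0⟩] (.node 2 [⟨2, (Int.ofNat 1), 0, 0⟩] (.node 1 [⟨1, (Int.ofNat 1), 0, 0⟩] (.node 0 [⟨0, (Int.ofNat 1), 0, 0⟩] .nil .nil) .nil) (.node 3 [⟨3, (Int.ofNat 1), 0, 0⟩] .nil .nil)) (.node 7 [⟨7, (Int.ofNat 1), 0, 0⟩] (.node 6 [⟨6, (Int.ofNat 1), 0, 0⟩] (.node 5 [⟨5, (Int.ofNat 1), 0, 0⟩] .nil .nil) .nil) (.node 8 [⟨8, (Int.ofNat 1), 0, 0⟩] .nil .nil))) (.node 14 [⟨14, (Int.ofNat 1), 0, 0⟩] (.node 12 [⟨12, (Int.ofNat 1), 0, 0⟩] (.node 11 [⟨11, (Int.ofNat 1), 0, 0⟩] (.node 10 [⟨10, (Int.ofNat 1), 0, 0⟩] .nil .nil) .nil) (.node 13 [⟨13, (Int.ofNat 1), 0, 0⟩] .nil .nil)) (.node 17 [⟨17, (Int.ofNat 1), 0, 0⟩] (.node 16 [⟨16, (Int.ofNat 1), 0, 0⟩] (.node 15 [⟨15,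 (Int.ofNat 1), 0, 0⟩] .nil .nil) .nil) (.node 18 [⟨18, (Int.ofNat 1), 0, 0⟩] .nil .nil)))) (.node 29 [⟨29, (Int.ofNat 1), 0, 0⟩] (.node 24 [⟨24, (Int.ofNat 1), 0, 0⟩] (.node 22 [⟨22, (Int.ofNat 1), 0, 0⟩] (.node 21 [⟨21, (Int.ofNat 1), 0, 0⟩] (.node 20 [⟨20, (Int.ofNat 1), 0, 0⟩] .nil .nil) .nil) (.node 23 [⟨23, (Int.ofNat 1), 0, 0⟩] .nil .nil)) (.node 27 [⟨27, (Int.ofNat 1), 0, 0⟩] (.node 26 [⟨26, (Int.ofNat 1), 0, 0⟩] (.node 25 [⟨25, (Int.ofNat 1), 0, 0⟩] .nil .nil) .nil) (.node 28 [⟨28, (Int.ofNat 1), 0, 0⟩] .nil .nil))) (.node 34 [⟨34, (Int.ofNat 1), 0, 0⟩] (.node 32 [⟨32, (Int.ofNat 1), 0, 0⟩] (.node 31 [⟨31, (Int.ofNat 1), 0, 0⟩] (.node 30 [⟨30, (Int.ofNat 1), 0, 0⟩] .nil .nil) .nil) (.node 33 [⟨33, (Int.ofNat 1), 0, 0⟩] .nil .nil)) (.node 37 [⟨37, (Int.ofNat 1), 0, 0⟩] (.node 36 [⟨36, (Int.ofNat 1), 0,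 0⟩] (.node 35 [⟨35, (Int.ofNat 1), 0, 0⟩] .nil .nil) .nil) (.node 38 [⟨38, (Int.ofNat 1), 0, 0⟩] .nil .nil))))) (.node 59 [⟨59, (Int.ofNat 1), 0, 0⟩] (.node 49 [⟨49, (Int.ofNat 1), 0, 0⟩] (.node 44 [⟨44, (Int.ofNat 1), 0, 0⟩] (.node 42 [⟨42, (Int.ofNat 1), 0, 0⟩] (.node 41 [⟨41, (Int.ofNat 1), 0, 0⟩] (.node 40 [⟨40, (Int.ofNat 1), 0, 0⟩] .nil .nil) .nil) (.node 43 [⟨43, (Int.ofNat 1), 0, 0⟩] .nil .nil)) (.node 47 [⟨47, (Int.ofNat 1), 0, 0⟩] (.node 46 [⟨46, (Int.ofNat 1), 0, 0⟩] (.node 45 [⟨45, (Int.ofNat 1), 0, 0⟩] .nil .nil) .nil) (.node 48 [⟨48, (Int.ofNat 1), 0, 0⟩] .nil .nil))) (.node 54 [⟨54, (Int.ofNat 1), 0, 0⟩] (.node 52 [⟨52, (Int.ofNat 1), 0, 0⟩] (.node 51 [⟨51, (Int.ofNat 1), 0, 0⟩] (.node 50 [⟨50, (Int.ofNat 1), 0, 0⟩] .nil .nil) .nil) (.node 53 [⟨53, (Int.ofNat 1), 0, 0⟩] .nil .nil)) (.node 57 [⟨57,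 (Int.ofNat 1), 0, 0⟩] (.node 56 [⟨56, (Int.ofNat 1), 0, 0⟩] (.node 55 [⟨55, (Int.ofNat 1), 0, 0⟩] .nil .nil) .nil) (.node 58 [⟨58, (Int.ofNat 1), 0, 0⟩] .nil .nil)))) (.node 69 [⟨69, (Int.ofNat 1), 0, 0⟩] (.node 64 [⟨64, (Int.ofNat 1), 0, 0⟩] (.node 62 [⟨62, (Int.ofNat 1), 0, 0⟩] (.node 61 [⟨61, (Int.ofNat 1), 0, 0⟩] (.node 60 [⟨60, (Int.ofNat 1), 0, 0⟩] .nil .nil) .nil) (.node 63 [⟨63, (Int.ofNat 1), 0, 0⟩] .nil .nil)) (.node 67 [⟨67, (Int.ofNat 1), 0, 0⟩] (.node 66 [⟨66, (Int.ofNat 1), 0, 0⟩] (.node 65 [⟨65, (Int.ofNat 1), 0, 0⟩] .nil .nil) .nil) (.node 68 [⟨68, (Int.ofNat 1), 0, 0⟩] .nil .nil))) (.node 74 [⟨74, (Int.ofNat 1), 0, 0⟩] (.node 72 [⟨72, (Int.ofNat 1), 0, 0⟩] (.node 71 [⟨71, (Int.ofNat 1), 0, 0⟩] (.node 70 [⟨70, (Int.ofNat 1), 0, 0⟩] .nil .nil) .nil) (.node 73 [⟨73, (Int.ofNat 1), 0, 0⟩] .nil .nil))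 (.node 76 [⟨76, (Int.ofNat 1), 0, 0⟩] (.node 75 [⟨75, (Int.ofNat 1), 0, 0⟩] .nil .nil) (.node 77 [⟨77, (Int.ofNat 1), 0, 0⟩] .nil .nil))))))
def wT : Tr (ℕ × ℤ) := (.node 36 (36, (Int.ofNat 1)) (.node 18 (18, (Int.ofNat 1)) (.node 9 (9, (Int.ofNat 1)) (.node 4 (4, (Int.ofNat 1)) (.node 2 (2, (Int.ofNat 1)) (.node 1 (1, (Int.ofNat 1)) (.node 0 (0, (Int.ofNat 1)) .nil .nil) .nil) (.node 3 (3, (Int.ofNat 1)) .nil .nil)) (.node 7 (7, (Int.ofNat 1)) (.node 6 (6, (Int.ofNat 1)) (.node 5 (5, (Int.ofNat 1)) .nil .nil) .nil) (.node 8 (8, (Int.ofNat 1)) .nil .nil))) (.node 14 (14, (Int.ofNat 1)) (.node 12 (12, (Int.ofNat 1)) (.node 11 (11, (Int.ofNat 1)) (.node 10 (10, (Int.ofNat 1)) .nil .nil) .nil) (.node 13 (13, (Int.ofNat 1)) .nil .nil)) (.node 16 (16, (Int.ofNat 1)) (.node 15 (15, (Int.ofNat 1)) .nil .nil) (.node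 17 (17, (Int.ofNat 1)) .nil .nil)))) (.node 27 (27, (Int.ofNat 1)) (.node 23 (23, (Int.ofNat 1)) (.node 21 (21, (Int.ofNat 1)) (.node 20 (20, (Int.ofNat 1)) (.node 19 (19, (Int.ofNat 1)) .nil .nil) .nil) (.node 22 (22, (Int.ofNat 1)) .nil .nil)) (.node 25 (25, (Int.ofNat 1)) (.node 24 (24, (Int.ofNat 1)) .nil .nil) (.node 26 (26, (Int.ofNat 1)) .nil .nil))) (.node 32 (32, (Int.ofNat 1)) (.node 30 (30, (Int.ofNat 1)) (.node 29 (29, (Int.ofNat 1)) (.node 28 (28, (Int.ofNat 1)) .nil .nil) .nil) (.node 31 (31, (Int.ofNat 1)) .nil .nil)) (.node 34 (34, (Int.ofNat 1)) (.node 33 (33, (Int.ofNat 1)) .nil .nil) (.node 35 (35, (Int.ofNat 1)) .nil .nil))))) (.node 54 (54, (Int.ofNat 1)) (.node 45 (45, (Int.ofNat 1)) (.node 41 (41, (Int.ofNat 1)) (.node 39 (39, (Int.ofNat 1)) (.node 38 (38, (Int.ofNat 1)) (.node 37 (37,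 (Int.ofNat 1)) .nil .nil) .nil) (.node 40 (40, (Int.ofNat 1)) .nil .nil)) (.node 43 (43, (Int.ofNat 1)) (.node 42 (42, (Int.ofNat 1)) .nil .nil) (.node 44 (44, (Int.ofNat 1)) .nil .nil))) (.node 50 (50, (Int.ofNat 1)) (.node 48 (48, (Int.ofNat 1)) (.node 47 (47, (Int.ofNat 1)) (.node 46 (46, (Int.ofNat 1)) .nil .nil) .nil) (.node 49 (49, (Int.ofNat 1)) .nil .nil)) (.node 52 (52, (Int.ofNat 1)) (.node 51 (51, (Int.ofNat 1)) .nil .nil) (.node 53 (53, (Int.ofNat 1)) .nil .nil)))) (.node 63 (63, (Int.ofNat 1)) (.node 59 (59, (Int.ofNat 1)) (.node 57 (57, (Int.ofNat 1)) (.node 56 (56, (Int.ofNat 1)) (.node 55 (55, (Int.ofNat 1)) .nil .nil) .nil) (.node 58 (58, (Int.ofNat 1)) .nil .nil)) (.node 61 (61, (Int.ofNat 1)) (.node 60 (60, (Int.ofNat 1)) .nil .nil) (.node 62 (62, (Int.ofNat 1)) .nil .nil))) (.node 68 (68,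 (Int.ofNat 1)) (.node 66 (66, (Int.ofNat 1)) (.node 65 (65, (Int.ofNat 1)) (.node 64 (64, (Int.ofNat 1)) .nil .nil) .nil) (.node 67 (67, (Int.ofNat 1)) .nil .nil)) (.node 70 (70, (Int.ofNat 1)) (.node 69 (69, (Int.ofNat 1)) .nil .nil) (.node 71 (71, (Int.ofNat 1)) .nil .nil))))))
def wi : Tr ℕ := (.node 36 36 (.node 18 18 (.node 9 9 (.node 4 4 (.node 2 2 (.node 1 1 (.node 0 0 .nil .nil) .nil) (.node 3 3 .nil .nil)) (.node 7 7 (.node 6 6 (.node 5 5 .nil .nil) .nil) (.node 8 8 .nil .nil))) (.node 14 14 (.node 12 12 (.node 11 11 (.node 10 10 .nil .nil) .nil) (.node 13 13 .nil .nil)) (.node 16 16 (.node 15 15 .nil .nil) (.node 17 17 .nil .nil)))) (.node 27 27 (.node 23 23 (.node 21 21 (.node 20 20 (.node 19 19 .nil .nil) .nil) (.node 22 22 .nil .nil)) (.node 25 25 (.node 24 24 .nil .nil) (.node 26 26 .nil .nil)))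 (.node 32 32 (.node 30 30 (.node 29 29 (.node 28 28 .nil .nil) .nil) (.node 31 31 .nil .nil)) (.node 34 34 (.node 33 33 .nil .nil) (.node 35 35 .nil .nil))))) (.node 54 54 (.node 45 45 (.node 41 41 (.node 39 39 (.node 38 38 (.node 37 37 .nil .nil) .nil) (.node 40 40 .nil .nil)) (.node 43 43 (.node 42 42 .nil .nil) (.node 44 44 .nil .nil))) (.node 50 50 (.node 48 48 (.node 47 47 (.node 46 46 .nil .nil) .nil) (.node 49 49 .nil .nil)) (.node 52 52 (.node 51 51 .nil .nil) (.node 53 53 .nil .nil)))) (.node 63 63 (.node 59 59 (.node 57 57 (.node 56 56 (.node 55 55 .nil .nil) .nil) (.node 58 58 .nil .nil)) (.node 61 61 (.node 60 60 .nil .nil) (.node 62 62 .nil .nil))) (.node 68 68 (.node 66 66 (.node 65 65 (.node 64 64 .nil .nil) .nil) (.node 67 67 .nil .nil)) (.node 70 70 (.node 69 69 .nil .nil) (.node 71 71 .nil .nil))))))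
def f (j : ℕ) : Vc := Tr.find [] fT j
def g (j : ℕ) : Vc := Tr.find [] gT j

theorem hf : scalarOK (chevE6.rank + chevE6.nroots) f = true := by decide +kernel
theorem hg : scalarOK (chevE6.rank + chevE6.nroots) g = true := by decide +kernel
theorem hinv : invCheck (chevE6.rank + chevE6.nroots) f g = true := by decide +kernel
theorem hw : rootsCheck chevE6 cols f wT wi = true := by decide +kernel
theorem hperm : lall (fun i => and (Nat.beq (Tr.find (0, 0) wT (chevE6.simple i)).1 (chevE6.simple (([0, 1, 2, 3, 4, 5]).getD i 0)))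
    (and (intEq (Tr.find (0, 0) wT (chevE6.simple i)).2 (Int.ofNat 1))
    (and (Nat.beq (Tr.find (0, 0) wT (chevE6.neg (chevE6.simple i))).1 (chevE6.neg (chevE6.simple (([0, 1, 2, 3, 4, 5]).getD i 0))))
      (intEq (Tr.find (0, 0) wT (chevE6.neg (chevE6.simple i))).2 (Int.ofNat 1))))) (List.range 6) = true := by decide +kernel

theorem aut {F : Type*} [Field F] (hA : Cfsg.Agent.Lib.ChevBN.Elem.AddRel chevE6 F) :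
    ∃ α : ↥(chevE6.group F) ≃* ↥(chevE6.group F), ∀ (g : ↥(chevE6.group F)) (i : ℕ) (t : F), i < chevE6.rank →
      (((g : GL chevE6.Idx F) : Matrix chevE6.Idx chevE6.Idx F) = chevE6.x F (chevE6.simple i) t →
        ((α g : GL chevE6.Idx F) : Matrix chevE6.Idx chevE6.Idx F) = chevE6.x F (chevE6.simple (([0, 1, 2, 3, 4, 5]).getD i 0)) t) ∧
      (((g : GL chevE6.Idx F) : Matrix chevE6.Idx chevE6.Idx F) = chevE6.x F (chevE6.neg (chevE6.simple i)) t →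
        ((α g : GL chevE6.Idx F) : Matrix chevE6.Idx chevE6.Idx F) = chevE6.x F (chevE6.neg (chevE6.simple (([0, 1, 2, 3, 4, 5]).getD i 0))) t) :=
  aut_of_list hA colOK hf hg hinv hw hperm (by decide +kernel)

theorem hpr : lall (fun r => Nat.beq (permRootL chevE6 [0, 1, 2, 3, 4, 5] r) (Tr.find (0, 0) wT r).1) (List.range 72) = true := by decide +kernel

theorem signs {F : Type*} [Field F] {η : ℕ → ℕ → ℤ} (hR : Cfsg.Agent.Lib.ChevBN.Rel.Sys chevE6 F η) (hTb : Cfsg.Agent.Lib.ChevBN.Table.Tbl chevE6)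
    (π : Equiv.Perm (Fin chevE6.rank)) (hl : ∀ i : Fin chevE6.rank, ((π i : Fin chevE6.rank) : ℕ) = ([0, 1, 2, 3, 4, 5]).getD i.val 0)
    (φ : ↥(chevE6.group F) ≃* ↥(chevE6.group F))
    (hφ : ∀ (g : ↥(chevE6.group F)) (i : Fin chevE6.rank) (t : F),
      (((g : GL chevE6.Idx F) : Matrix chevE6.Idx chevE6.Idx F) = chevE6.x F (chevE6.simple i) t →
        ((φ g : GL chevE6.Idx F) : Matrix chevE6.Idx chevE6.Idx F) = chevE6.x F (chevE6.simple (π i)) t) ∧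
      (((g : GL chevE6.Idx F) : Matrix chevE6.Idx chevE6.Idx F) = chevE6.x F (chevE6.neg (chevE6.simple i)) t →
        ((φ g : GL chevE6.Idx F) : Matrix chevE6.Idx chevE6.Idx F) = chevE6.x F (chevE6.neg (chevE6.simple (π i))) t))
    (r : ℕ) (hr : r < chevE6.nroots) :
    ∃ ε : F, (ε = 1 ∨ ε = -1) ∧ ∀ (g : ↥(chevE6.group F)) (t : F),
      ((g : GL chevE6.Idx F) : Matrix chevE6.Idx chevE6.Idx F) = chevE6.x F r t →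
        ((φ g : GL chevE6.Idx F) : Matrix chevE6.Idx chevE6.Idx F) = chevE6.x F (chevE6.permRoot π r) (ε * t) :=
  signs_of_list hR hTb colOK hf hg hinv hw hperm hpr π hl φ hφ r hr

end P0

namespace P1

def fT : Tr Vc := (.node 39 [⟨20, (Int.negSucc 0), 0, 0⟩] (.node 19 [⟨36, (Int.ofNat 1), 0, 0⟩] (.node 9 [⟨11, (Int.ofNat 1), 0, 0⟩] (.node 4 [⟨2, (Int.ofNat 1), 0, 0⟩] (.node 2 [⟨4, (Int.ofNat 1), 0, 0⟩] (.node 1 [⟨1, (Int.ofNat 1), 0, 0⟩] (.node 0 [⟨5, (Int.ofNat 1), 0, 0⟩] .nil .nil) .nil) (.node 3 [⟨3, (Int.ofNat 1), 0, 0⟩] .nil .nil)) (.node 7 [⟨7, (Int.ofNat 1), 0, 0⟩] (.node 6 [⟨6, (Int.ofNat 1), 0, 0⟩] (.node 5 [⟨0, (Int.ofNat 1), 0, 0⟩] .nil .nil) .nil) (.node 8 [⟨8, (Int.ofNat 1), 0, 0⟩] .nil .nil))) (.node 14 [⟨14, (Int.ofNat 1), 0, 0⟩] (.node 12 [⟨12, (Int.ofNat 1), 0, 0⟩] (.node 11 [⟨9, (Int.ofNat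 1), 0, 0⟩] (.node 10 [⟨22, (Int.negSucc 0), 0, 0⟩] .nil .nil) .nil) (.node 13 [⟨23, (Int.negSucc 0), 0, 0⟩] .nil .nil)) (.node 17 [⟨17, (Int.ofNat 1), 0, 0⟩] (.node 16 [⟨28, (Int.negSucc 0), 0, 0⟩] (.node 15 [⟨25, (Int.negSucc 0), 0, 0⟩] .nil .nil) .nil) (.node 18 [⟨32, (Int.negSucc 0), 0, 0⟩] .nil .nil)))) (.node 29 [⟨27, (Int.ofNat 1), 0, 0⟩] (.node 24 [⟨24, (Int.ofNat 1), 0, 0⟩] (.node 22 [⟨10, (Int.negSucc 0), 0, 0⟩] (.node 21 [⟨41, (Int.ofNat 1), 0, 0⟩] (.node 20 [⟨39, (Int.negSucc 0), 0, 0⟩] .nil .nil) .nil) (.node 23 [⟨13, (Int.negSucc 0), 0, 0⟩] .nil .nil)) (.node 27 [⟨29, (Int.ofNat 1), 0, 0⟩] (.node 26 [⟨26, (Int.ofNat 1), 0, 0⟩] (.node 25 [⟨15, (Int.negSucc 0), 0, 0⟩] .nil .nil) .nil) (.node 28 [⟨16, (Int.negSucc 0), 0, 0⟩] .nil .nil))) (.node 34 [⟨37, (Int.negSucc 0), 0, 0⟩] (.node 32 [⟨18, (Int.negSucc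 0), 0, 0⟩] (.node 31 [⟨31, (Int.ofNat 1), 0, 0⟩] (.node 30 [⟨30, (Int.ofNat 1), 0, 0⟩] .nil .nil) .nil) (.node 33 [⟨33, (Int.ofNat 1), 0, 0⟩] .nil .nil)) (.node 37 [⟨34, (Int.negSucc 0), 0, 0⟩] (.node 36 [⟨19, (Int.ofNat 1), 0, 0⟩] (.node 35 [⟨40, (Int.ofNat 1), 0, 0⟩] .nil .nil) .nil) (.node 38 [⟨38, (Int.ofNat 1), 0, 0⟩] .nil .nil))))) (.node 59 [⟨59, (Int.ofNat 1), 0, 0⟩] (.node 49 [⟨46, (Int.negSucc 0), 0, 0⟩] (.node 44 [⟨63, (Int.negSucc 0), 0, 0⟩] (.node 42 [⟨62, (Int.ofNat 1), 0, 0⟩] (.node 41 [⟨21, (Int.ofNat 1), 0, 0⟩] (.node 40 [⟨35, (Int.ofNat 1), 0, 0⟩] .nil .nil) .nil) (.node 43 [⟨48, (Int.ofNat 1), 0, 0⟩] .nil .nil)) (.node 47 [⟨64, (Int.ofNat 1), 0, 0⟩] (.node 46 [⟨49, (Int.negSucc 0), 0, 0⟩] (.node 45 [⟨45, (Int.ofNat 1), 0, 0⟩] .nil .nil) .nil) (.node 48 [⟨43, (Int.ofNat 1), 0, 0⟩] .nil .nil)))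 (.node 54 [⟨56, (Int.ofNat 1), 0, 0⟩] (.node 52 [⟨52, (Int.ofNat 1), 0, 0⟩] (.node 51 [⟨65, (Int.negSucc 0), 0, 0⟩] (.node 50 [⟨50, (Int.ofNat 1), 0, 0⟩] .nil .nil) .nil) (.node 53 [⟨53, (Int.ofNat 1), 0, 0⟩] .nil .nil)) (.node 57 [⟨57, (Int.ofNat 1), 0, 0⟩] (.node 56 [⟨54, (Int.ofNat 1), 0, 0⟩] (.node 55 [⟨67, (Int.negSucc 0), 0, 0⟩] .nil .nil) .nil) (.node 58 [⟨68, (Int.negSucc 0), 0, 0⟩] .nil .nil)))) (.node 69 [⟨69, (Int.ofNat 1), 0, 0⟩] (.node 64 [⟨47, (Int.ofNat 1), 0, 0⟩] (.node 62 [⟨42, (Int.ofNat 1), 0, 0⟩] (.node 61 [⟨73, (Int.negSucc 0), 0, 0⟩] (.node 60 [⟨70, (Int.negSucc 0), 0, 0⟩] .nil .nil) .nil) (.node 63 [⟨44, (Int.negSucc 0), 0, 0⟩] .nil .nil)) (.node 67 [⟨55, (Int.negSucc 0), 0, 0⟩] (.node 66 [⟨66, (Int.ofNat 1), 0, 0⟩] (.node 65 [⟨51, (Int.negSucc 0), 0, 0⟩] .nil .nil) .nil) (.node 68 [⟨58,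 (Int.negSucc 0), 0, 0⟩] .nil .nil))) (.node 74 [⟨72, (Int.ofNat 1), 0, 0⟩] (.node 72 [⟨74, (Int.ofNat 1), 0, 0⟩] (.node 71 [⟨71, (Int.ofNat 1), 0, 0⟩] (.node 70 [⟨60, (Int.negSucc 0), 0, 0⟩] .nil .nil) .nil) (.node 73 [⟨61, (Int.negSucc 0), 0, 0⟩] .nil .nil)) (.node 76 [⟨76, (Int.ofNat 1), 0, 0⟩] (.node 75 [⟨75, (Int.ofNat 1), 0, 0⟩] .nil .nil) (.node 77 [⟨77, (Int.ofNat 1), 0, 0⟩] .nil .nil))))))
def gT : Tr Vc := (.node 39 [⟨20, (Int.negSucc 0), 0, 0⟩] (.node 19 [⟨36, (Int.ofNat 1), 0, 0⟩] (.node 9 [⟨11, (Int.ofNat 1), 0, 0⟩] (.node 4 [⟨2, (Int.ofNat 1), 0, 0⟩] (.node 2 [⟨4, (Int.ofNat 1), 0, 0⟩] (.node 1 [⟨1, (Int.ofNat 1), 0, 0⟩] (.node 0 [⟨5, (Int.ofNat 1), 0, 0⟩] .nil .nil) .nil) (.node 3 [⟨3, (Int.ofNat 1), 0, 0⟩] .nil .nil)) (.node 7 [⟨7, (Int.ofNat 1), 0, 0⟩] (.node 6 [⟨6, (Int.ofNat 1), 0, 0⟩] (.node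 5 [⟨0, (Int.ofNat 1), 0, 0⟩] .nil .nil) .nil) (.node 8 [⟨8, (Int.ofNat 1), 0, 0⟩] .nil .nil))) (.node 14 [⟨14, (Int.ofNat 1), 0, 0⟩] (.node 12 [⟨12, (Int.ofNat 1), 0, 0⟩] (.node 11 [⟨9, (Int.ofNat 1), 0, 0⟩] (.node 10 [⟨22, (Int.negSucc 0), 0, 0⟩] .nil .nil) .nil) (.node 13 [⟨23, (Int.negSucc 0), 0, 0⟩] .nil .nil)) (.node 17 [⟨17, (Int.ofNat 1), 0, 0⟩] (.node 16 [⟨28, (Int.negSucc 0), 0, 0⟩] (.node 15 [⟨25, (Int.negSucc 0), 0, 0⟩] .nil .nil) .nil) (.node 18 [⟨32, (Int.negSucc 0), 0, 0⟩] .nil .nil)))) (.node 29 [⟨27, (Int.ofNat 1), 0, 0⟩] (.node 24 [⟨24, (Int.ofNat 1), 0, 0⟩] (.node 22 [⟨10, (Int.negSucc 0), 0, 0⟩] (.node 21 [⟨41, (Int.ofNat 1), 0, 0⟩] (.node 20 [⟨39, (Int.negSucc 0), 0, 0⟩] .nil .nil) .nil) (.node 23 [⟨13, (Int.negSucc 0), 0, 0⟩] .nil .nil)) (.node 27 [⟨29, (Int.ofNat 1), 0, 0⟩] (.node 26 [⟨26,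 (Int.ofNat 1), 0, 0⟩] (.node 25 [⟨15, (Int.negSucc 0), 0, 0⟩] .nil .nil) .nil) (.node 28 [⟨16, (Int.negSucc 0), 0, 0⟩] .nil .nil))) (.node 34 [⟨37, (Int.negSucc 0), 0, 0⟩] (.node 32 [⟨18, (Int.negSucc 0), 0, 0⟩] (.node 31 [⟨31, (Int.ofNat 1), 0, 0⟩] (.node 30 [⟨30, (Int.ofNat 1), 0, 0⟩] .nil .nil) .nil) (.node 33 [⟨33, (Int.ofNat 1), 0, 0⟩] .nil .nil)) (.node 37 [⟨34, (Int.negSucc 0), 0, 0⟩] (.node 36 [⟨19, (Int.ofNat 1), 0, 0⟩] (.node 35 [⟨40, (Int.ofNat 1), 0, 0⟩] .nil .nil) .nil) (.node 38 [⟨38, (Int.ofNat 1), 0, 0⟩] .nil .nil))))) (.node 59 [⟨59, (Int.ofNat 1), 0, 0⟩] (.node 49 [⟨46, (Int.negSucc 0), 0, 0⟩] (.node 44 [⟨63, (Int.negSucc 0), 0, 0⟩] (.node 42 [⟨62, (Int.ofNat 1), 0, 0⟩] (.node 41 [⟨21, (Int.ofNat 1), 0, 0⟩] (.node 40 [⟨35, (Int.ofNat 1), 0, 0⟩] .nil .nil) .nil) (.node 43 [⟨48, (Int.ofNat 1),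 0, 0⟩] .nil .nil)) (.node 47 [⟨64, (Int.ofNat 1), 0, 0⟩] (.node 46 [⟨49, (Int.negSucc 0), 0, 0⟩] (.node 45 [⟨45, (Int.ofNat 1), 0, 0⟩] .nil .nil) .nil) (.node 48 [⟨43, (Int.ofNat 1), 0, 0⟩] .nil .nil))) (.node 54 [⟨56, (Int.ofNat 1), 0, 0⟩] (.node 52 [⟨52, (Int.ofNat 1), 0, 0⟩] (.node 51 [⟨65, (Int.negSucc 0), 0, 0⟩] (.node 50 [⟨50, (Int.ofNat 1), 0, 0⟩] .nil .nil) .nil) (.node 53 [⟨53, (Int.ofNat 1), 0, 0⟩] .nil .nil)) (.node 57 [⟨57, (Int.ofNat 1), 0, 0⟩] (.node 56 [⟨54, (Int.ofNat 1), 0, 0⟩] (.node 55 [⟨67, (Int.negSucc 0), 0, 0⟩] .nil .nil) .nil) (.node 58 [⟨68, (Int.negSucc 0), 0, 0⟩] .nil .nil)))) (.node 69 [⟨69, (Int.ofNat 1), 0, 0⟩] (.node 64 [⟨47, (Int.ofNat 1), 0, 0⟩] (.node 62 [⟨42, (Int.ofNat 1), 0, 0⟩] (.node 61 [⟨73, (Int.negSucc 0), 0, 0⟩] (.node 60 [⟨70, (Int.negSucc 0), 0, 0⟩] .nil .nil) .nil)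 (.node 63 [⟨44, (Int.negSucc 0), 0, 0⟩] .nil .nil)) (.node 67 [⟨55, (Int.negSucc 0), 0, 0⟩] (.node 66 [⟨66, (Int.ofNat 1), 0, 0⟩] (.node 65 [⟨51, (Int.negSucc 0), 0, 0⟩] .nil .nil) .nil) (.node 68 [⟨58, (Int.negSucc 0), 0, 0⟩] .nil .nil))) (.node 74 [⟨72, (Int.ofNat 1), 0, 0⟩] (.node 72 [⟨74, (Int.ofNat 1), 0, 0⟩] (.node 71 [⟨71, (Int.ofNat 1), 0, 0⟩] (.node 70 [⟨60, (Int.negSucc 0), 0, 0⟩] .nil .nil) .nil) (.node 73 [⟨61, (Int.negSucc 0), 0, 0⟩] .nil .nil)) (.node 76 [⟨76, (Int.ofNat 1), 0, 0⟩] (.node 75 [⟨75, (Int.ofNat 1), 0, 0⟩] .nil .nil) (.node 77 [⟨77, (Int.ofNat 1), 0, 0⟩] .nil .nil))))))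
def wT : Tr (ℕ × ℤ) := (.node 36 (56, (Int.ofNat 1)) (.node 18 (18, (Int.ofNat 1)) (.node 9 (19, (Int.negSucc 0)) (.node 4 (16, (Int.negSucc 0)) (.node 2 (2, (Int.ofNat 1)) (.node 1 (1, (Int.ofNat 1)) (.node 0 (0, (Int.ofNat 1)) .nil .nil) .nil) (.node 3 (5, (Int.ofNat 1)) .nil .nil)) (.node 7 (17, (Int.negSucc 0)) (.node 6 (6, (Int.ofNat 1)) (.node 5 (3, (Int.ofNat 1)) .nil .nil) .nil) (.node 8 (8, (Int.ofNat 1)) .nil .nil))) (.node 14 (33, (Int.negSucc 0)) (.node 12 (26, (Int.negSucc 0)) (.node 11 (11, (Int.ofNat 1)) (.node 10 (22, (Int.negSucc 0)) .nil .nil) .nil) (.node 13 (30, (Int.ofNat 1)) .nil .nil)) (.node 16 (4, (Int.negSucc 0)) (.node 15 (35, (Int.ofNat 1)) .nil .nil) (.node 17 (7, (Int.negSucc 0)) .nil .nil)))) (.node 27 (27, (Int.ofNat 1)) (.node 23 (21, (Int.ofNat 1)) (.node 21 (23, (Int.ofNat 1))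 (.node 20 (20, (Int.ofNat 1)) (.node 19 (9, (Int.negSucc 0)) .nil .nil) .nil) (.node 22 (10, (Int.negSucc 0)) .nil .nil)) (.node 25 (25, (Int.ofNat 1)) (.node 24 (24, (Int.ofNat 1)) .nil .nil) (.node 26 (12, (Int.negSucc 0)) .nil .nil))) (.node 32 (32, (Int.ofNat 1)) (.node 30 (13, (Int.ofNat 1)) (.node 29 (34, (Int.ofNat 1)) (.node 28 (31, (Int.negSucc 0)) .nil .nil) .nil) (.node 31 (28, (Int.negSucc 0)) .nil .nil)) (.node 34 (29, (Int.ofNat 1)) (.node 33 (14, (Int.negSucc 0)) .nil .nil) (.node 35 (15, (Int.ofNat 1)) .nil .nil))))) (.node 54 (64, (Int.negSucc 0)) (.node 45 (59, (Int.negSucc 0)) (.node 41 (58, (Int.ofNat 1)) (.node 39 (39, (Int.ofNat 1)) (.node 38 (57, (Int.negSucc 0)) (.node 37 (42, (Int.ofNat 1)) .nil .nil) .nil) (.node 40 (43, (Int.negSucc 0)) .nil .nil)) (.node 43 (40, (Int.negSucc 0)) (.node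 42 (37, (Int.ofNat 1)) .nil .nil) (.node 44 (44, (Int.ofNat 1)) .nil .nil))) (.node 50 (48, (Int.ofNat 1)) (.node 48 (50, (Int.ofNat 1)) (.node 47 (47, (Int.ofNat 1)) (.node 46 (46, (Int.ofNat 1)) .nil .nil) .nil) (.node 49 (61, (Int.negSucc 0)) .nil .nil)) (.node 52 (62, (Int.negSucc 0)) (.node 51 (51, (Int.ofNat 1)) .nil .nil) (.node 53 (53, (Int.ofNat 1)) .nil .nil)))) (.node 63 (63, (Int.ofNat 1)) (.node 59 (45, (Int.negSucc 0)) (.node 57 (38, (Int.negSucc 0)) (.node 56 (36, (Int.ofNat 1)) (.node 55 (67, (Int.negSucc 0)) .nil .nil) .nil) (.node 58 (41, (Int.ofNat 1)) .nil .nil)) (.node 61 (49, (Int.negSucc 0)) (.node 60 (60, (Int.ofNat 1)) .nil .nil) (.node 62 (52, (Int.negSucc 0)) .nil .nil))) (.node 68 (66, (Int.ofNat 1)) (.node 66 (68, (Int.ofNat 1)) (.node 65 (65, (Int.ofNat 1)) (.node 64 (54, (Int.negSucc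 0)) .nil .nil) .nil) (.node 67 (55, (Int.negSucc 0)) .nil .nil)) (.node 70 (70, (Int.ofNat 1)) (.node 69 (69, (Int.ofNat 1)) .nil .nil) (.node 71 (71, (Int.ofNat 1)) .nil .nil))))))
def wi : Tr ℕ := (.node 36 56 (.node 18 18 (.node 9 19 (.node 4 16 (.node 2 2 (.node 1 1 (.node 0 0 .nil .nil) .nil) (.node 3 5 .nil .nil)) (.node 7 17 (.node 6 6 (.node 5 3 .nil .nil) .nil) (.node 8 8 .nil .nil))) (.node 14 33 (.node 12 26 (.node 11 11 (.node 10 22 .nil .nil) .nil) (.node 13 30 .nil .nil)) (.node 16 4 (.node 15 35 .nil .nil) (.node 17 7 .nil .nil)))) (.node 27 27 (.node 23 21 (.node 21 23 (.node 20 20 (.node 19 9 .nil .nil) .nil) (.node 22 10 .nil .nil)) (.node 25 25 (.node 24 24 .nil .nil) (.node 26 12 .nil .nil))) (.node 32 32 (.node 30 13 (.node 29 34 (.node 28 31 .nil .nil) .nil) (.node 31 28 .nil .nil)) (.node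 34 29 (.node 33 14 .nil .nil) (.node 35 15 .nil .nil))))) (.node 54 64 (.node 45 59 (.node 41 58 (.node 39 39 (.node 38 57 (.node 37 42 .nil .nil) .nil) (.node 40 43 .nil .nil)) (.node 43 40 (.node 42 37 .nil .nil) (.node 44 44 .nil .nil))) (.node 50 48 (.node 48 50 (.node 47 47 (.node 46 46 .nil .nil) .nil) (.node 49 61 .nil .nil)) (.node 52 62 (.node 51 51 .nil .nil) (.node 53 53 .nil .nil)))) (.node 63 63 (.node 59 45 (.node 57 38 (.node 56 36 (.node 55 67 .nil .nil) .nil) (.node 58 41 .nil .nil)) (.node 61 49 (.node 60 60 .nil .nil) (.node 62 52 .nil .nil))) (.node 68 66 (.node 66 68 (.node 65 65 (.node 64 54 .nil .nil) .nil) (.node 67 55 .nil .nil)) (.node 70 70 (.node 69 69 .nil .nil) (.node 71 71 .nil .nil))))))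
def f (j : ℕ) : Vc := Tr.find [] fT j
def g (j : ℕ) : Vc := Tr.find [] gT j

theorem hf : scalarOK (chevE6.rank + chevE6.nroots) f = true := by decide +kernel
theorem hg : scalarOK (chevE6.rank + chevE6.nroots) g = true := by decide +kernel
theorem hinv : invCheck (chevE6.rank + chevE6.nroots) f g = true := by decide +kernel
theorem hw : rootsCheck chevE6 cols f wT wi = true := by decide +kernel
theorem hperm : lall (fun i => and (Nat.beq (Tr.find (0, 0) wT (chevE6.simple i)).1 (chevE6.simple (([5, 1, 4, 3, 2, 0]).getD i 0)))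
    (and (intEq (Tr.find (0, 0) wT (chevE6.simple i)).2 (Int.ofNat 1))
    (and (Nat.beq (Tr.find (0, 0) wT (chevE6.neg (chevE6.simple i))).1 (chevE6.neg (chevE6.simple (([5, 1, 4, 3, 2, 0]).getD i 0))))
      (intEq (Tr.find (0, 0) wT (chevE6.neg (chevE6.simple i))).2 (Int.ofNat 1))))) (List.range 6) = true := by decide +kernel

theorem aut {F : Type*} [Field F] (hA : Cfsg.Agent.Lib.ChevBN.Elem.AddRel chevE6 F) :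
    ∃ α : ↥(chevE6.group F) ≃* ↥(chevE6.group F), ∀ (g : ↥(chevE6.group F)) (i : ℕ) (t : F), i < chevE6.rank →
      (((g : GL chevE6.Idx F) : Matrix chevE6.Idx chevE6.Idx F) = chevE6.x F (chevE6.simple i) t →
        ((α g : GL chevE6.Idx F) : Matrix chevE6.Idx chevE6.Idx F) = chevE6.x F (chevE6.simple (([5, 1, 4, 3, 2, 0]).getD i 0)) t) ∧
      (((g : GL chevE6.Idx F) : Matrix chevE6.Idx chevE6.Idx F) = chevE6.x F (chevE6.neg (chevE6.simple i)) t →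
        ((α g : GL chevE6.Idx F) : Matrix chevE6.Idx chevE6.Idx F) = chevE6.x F (chevE6.neg (chevE6.simple (([5, 1, 4, 3, 2, 0]).getD i 0))) t) :=
  aut_of_list hA colOK hf hg hinv hw hperm (by decide +kernel)

theorem hpr : lall (fun r => Nat.beq (permRootL chevE6 [5, 1, 4, 3, 2, 0] r) (Tr.find (0, 0) wT r).1) (List.range 72) = true := by decide +kernel

theorem signs {F : Type*} [Field F] {η : ℕ → ℕ → ℤ} (hR : Cfsg.Agent.Lib.ChevBN.Rel.Sys chevE6 F η) (hTb : Cfsg.Agent.Lib.ChevBN.Table.Tbl chevE6)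
    (π : Equiv.Perm (Fin chevE6.rank)) (hl : ∀ i : Fin chevE6.rank, ((π i : Fin chevE6.rank) : ℕ) = ([5, 1, 4, 3, 2, 0]).getD i.val 0)
    (φ : ↥(chevE6.group F) ≃* ↥(chevE6.group F))
    (hφ : ∀ (g : ↥(chevE6.group F)) (i : Fin chevE6.rank) (t : F),
      (((g : GL chevE6.Idx F) : Matrix chevE6.Idx chevE6.Idx F) = chevE6.x F (chevE6.simple i) t →
        ((φ g : GL chevE6.Idx F) : Matrix chevE6.Idx chevE6.Idx F) = chevE6.x F (chevE6.simple (π i)) t) ∧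
      (((g : GL chevE6.Idx F) : Matrix chevE6.Idx chevE6.Idx F) = chevE6.x F (chevE6.neg (chevE6.simple i)) t →
        ((φ g : GL chevE6.Idx F) : Matrix chevE6.Idx chevE6.Idx F) = chevE6.x F (chevE6.neg (chevE6.simple (π i))) t))
    (r : ℕ) (hr : r < chevE6.nroots) :
    ∃ ε : F, (ε = 1 ∨ ε = -1) ∧ ∀ (g : ↥(chevE6.group F)) (t : F),
      ((g : GL chevE6.Idx F) : Matrix chevE6.Idx chevE6.Idx F) = chevE6.x F r t →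
        ((φ g : GL chevE6.Idx F) : Matrix chevE6.Idx chevE6.Idx F) = chevE6.x F (chevE6.permRoot π r) (ε * t) :=
  signs_of_list hR hTb colOK hf hg hinv hw hperm hpr π hl φ hφ r hr

end P1

end

end Cfsg.Agent.Lib.Chevalley.Tbl.E6
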