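import Cfsg.Agent.Lib.Chevalley.Graph.Signs
import Cfsg.Agent.Lib.Chevalley.Tbl.D4Cols

/-! Generated: diagram automorphisms of type D4. -/

set_option autoImplicit false
set_option maxRecDepth 1000000

namespace Cfsg.Agent.Lib.Chevalley.Tbl.D4

open Cfsg.Lie Cfsg.Agent.Lib.Chevalley.Reflect Cfsg.Agent.Lib.Chevalley.Comm Cfsg.Agent.Lib.Chevalley.Graph

noncomputable section

namespace P0

def fT : Tr Vc := (.node 14 [⟨14, (Int.ofNat 1), 0, 0⟩] (.node 7 [⟨7, (Int.ofNat 1), 0, 0⟩] (.node 3 [⟨3, (Int.ofNat 1), 0, 0⟩] (.node 1 [⟨1, (Int.ofNat 1), 0, 0⟩] (.node 0 [⟨0, (Int.ofNat 1), 0, 0⟩] .nil .nil) (.node 2 [⟨2, (Int.ofNat 1), 0, 0⟩] .nil .nil)) (.node 5 [⟨5, (Int.ofNat 1), 0, 0⟩] (.node 4 [⟨4, (Int.ofNat 1), 0, 0⟩] .nil .nil) (.node 6 [⟨6, (Int.ofNat 1), 0, 0⟩] .nil .nil))) (.node 11 [⟨11, (Int.ofNat 1), 0, 0⟩] (.node 9 [⟨9, (Int.ofNat 1),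 0, 0⟩] (.node 8 [⟨8, (Int.ofNat 1), 0, 0⟩] .nil .nil) (.node 10 [⟨10, (Int.ofNat 1), 0, 0⟩] .nil .nil)) (.node 13 [⟨13, (Int.ofNat 1), 0, 0⟩] (.node 12 [⟨12, (Int.ofNat 1), 0, 0⟩] .nil .nil) .nil))) (.node 21 [⟨21, (Int.ofNat 1), 0, 0⟩] (.node 18 [⟨18, (Int.ofNat 1), 0, 0⟩] (.node 16 [⟨16, (Int.ofNat 1), 0, 0⟩] (.node 15 [⟨15, (Int.ofNat 1), 0, 0⟩] .nil .nil) (.node 17 [⟨17, (Int.ofNat 1), 0, 0⟩] .nil .nil)) (.node 20 [⟨20, (Int.ofNat 1), 0, 0⟩] (.node 19 [⟨19, (Int.ofNat 1), 0, 0⟩] .nil .nil) .nil)) (.node 25 [⟨25, (Int.ofNat 1), 0, 0⟩] (.node 23 [⟨23, (Int.ofNat 1), 0, 0⟩] (.node 22 [⟨22, (Int.ofNat 1), 0, 0⟩] .nil .nil) (.node 24 [⟨24, (Int.ofNat 1), 0, 0⟩] .nil .nil)) (.node 27 [⟨27, (Int.ofNat 1), 0, 0⟩] (.node 26 [⟨26, (Int.ofNat 1), 0, 0⟩] .nil .nil) .nil))))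
def gT : Tr Vc := (.node 14 [⟨14, (Int.ofNat 1), 0, 0⟩] (.node 7 [⟨7, (Int.ofNat 1), 0, 0⟩] (.node 3 [⟨3, (Int.ofNat 1), 0, 0⟩] (.node 1 [⟨1, (Int.ofNat 1), 0, 0⟩] (.node 0 [⟨0, (Int.ofNat 1), 0, 0⟩] .nil .nil) (.node 2 [⟨2, (Int.ofNat 1), 0, 0⟩] .nil .nil)) (.node 5 [⟨5, (Int.ofNat 1), 0, 0⟩] (.node 4 [⟨4, (Int.ofNat 1), 0, 0⟩] .nil .nil) (.node 6 [⟨6, (Int.ofNat 1), 0, 0⟩] .nil .nil))) (.node 11 [⟨11, (Int.ofNat 1), 0, 0⟩] (.node 9 [⟨9, (Int.ofNat 1), 0, 0⟩] (.node 8 [⟨8, (Int.ofNat 1), 0, 0⟩] .nil .nil) (.node 10 [⟨10, (Int.ofNat 1), 0, 0⟩] .nil .nil)) (.node 13 [⟨13, (Int.ofNat 1), 0, 0⟩] (.node 12 [⟨12, (Int.ofNat 1), 0, 0⟩] .nil .nil) .nil))) (.node 21 [⟨21, (Int.ofNat 1), 0, 0⟩] (.node 18 [⟨18, (Int.ofNat 1), 0, 0⟩] (.node 16 [⟨16, (Int.ofNat 1), 0, 0⟩] (.node 15 [⟨15, (Int.ofNat 1), 0, 0⟩] .nil .nil) (.node 17 [⟨17, (Int.ofNat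 1), 0, 0⟩] .nil .nil)) (.node 20 [⟨20, (Int.ofNat 1), 0, 0⟩] (.node 19 [⟨19, (Int.ofNat 1), 0, 0⟩] .nil .nil) .nil)) (.node 25 [⟨25, (Int.ofNat 1), 0, 0⟩] (.node 23 [⟨23, (Int.ofNat 1), 0, 0⟩] (.node 22 [⟨22, (Int.ofNat 1), 0, 0⟩] .nil .nil) (.node 24 [⟨24, (Int.ofNat 1), 0, 0⟩] .nil .nil)) (.node 27 [⟨27, (Int.ofNat 1), 0, 0⟩] (.node 26 [⟨26, (Int.ofNat 1), 0, 0⟩] .nil .nil) .nil))))
def wT : Tr (ℕ × ℤ) := (.node 12 (12, (Int.ofNat 1)) (.node 6 (6, (Int.ofNat 1)) (.node 3 (3, (Int.ofNat 1)) (.node 1 (1, (Int.ofNat 1)) (.node 0 (0, (Int.ofNat 1)) .nil .nil) (.node 2 (2, (Int.ofNat 1)) .nil .nil)) (.node 5 (5, (Int.ofNat 1)) (.node 4 (4, (Int.ofNat 1)) .nil .nil) .nil)) (.node 9 (9, (Int.ofNat 1)) (.node 8 (8, (Int.ofNat 1)) (.node 7 (7, (Int.ofNat 1)) .nil .nil) .nil) (.node 11 (11, (Int.ofNat 1)) (.node 10 (10, (Int.ofNat 1)) .nil .nil)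 .nil))) (.node 18 (18, (Int.ofNat 1)) (.node 15 (15, (Int.ofNat 1)) (.node 14 (14, (Int.ofNat 1)) (.node 13 (13, (Int.ofNat 1)) .nil .nil) .nil) (.node 17 (17, (Int.ofNat 1)) (.node 16 (16, (Int.ofNat 1)) .nil .nil) .nil)) (.node 21 (21, (Int.ofNat 1)) (.node 20 (20, (Int.ofNat 1)) (.node 19 (19, (Int.ofNat 1)) .nil .nil) .nil) (.node 23 (23, (Int.ofNat 1)) (.node 22 (22, (Int.ofNat 1)) .nil .nil) .nil))))
def wi : Tr ℕ := (.node 12 12 (.node 6 6 (.node 3 3 (.node 1 1 (.node 0 0 .nil .nil) (.node 2 2 .nil .nil)) (.node 5 5 (.node 4 4 .nil .nil) .nil)) (.node 9 9 (.node 8 8 (.node 7 7 .nil .nil) .nil) (.node 11 11 (.node 10 10 .nil .nil) .nil))) (.node 18 18 (.node 15 15 (.node 14 14 (.node 13 13 .nil .nil) .nil) (.node 17 17 (.node 16 16 .nil .nil) .nil)) (.node 21 21 (.node 20 20 (.node 19 19 .nil .nil) .nil) (.node 23 23 (.node 22 22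 .nil .nil) .nil))))
def f (j : ℕ) : Vc := Tr.find [] fT j
def g (j : ℕ) : Vc := Tr.find [] gT j

theorem hf : scalarOK (chevD4.rank + chevD4.nroots) f = true := by decide +kernel
theorem hg : scalarOK (chevD4.rank + chevD4.nroots) g = true := by decide +kernel
theorem hinv : invCheck (chevD4.rank + chevD4.nroots) f g = true := by decide +kernel
theorem hw : rootsCheck chevD4 cols f wT wi = true := by decide +kernel
theorem hperm : lall (fun i => and (Nat.beq (Tr.find (0, 0) wT (chevD4.simple i)).1 (chevD4.simple (([0, 1, 2, 3]).getD i 0)))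
    (and (intEq (Tr.find (0, 0) wT (chevD4.simple i)).2 (Int.ofNat 1))
    (and (Nat.beq (Tr.find (0, 0) wT (chevD4.neg (chevD4.simple i))).1 (chevD4.neg (chevD4.simple (([0, 1, 2, 3]).getD i 0))))
      (intEq (Tr.find (0, 0) wT (chevD4.neg (chevD4.simple i))).2 (Int.ofNat 1))))) (List.range 4) = true := by decide +kernel

theorem aut {F : Type*} [Field F] (hA : Cfsg.Agent.Lib.ChevBN.Elem.AddRel chevD4 F) :
    ∃ α : ↥(chevD4.group F) ≃* ↥(chevD4.group F), ∀ (g : ↥(chevD4.group F)) (i : ℕ) (t : F), i < chevD4.rank →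
      (((g : GL chevD4.Idx F) : Matrix chevD4.Idx chevD4.Idx F) = chevD4.x F (chevD4.simple i) t →
        ((α g : GL chevD4.Idx F) : Matrix chevD4.Idx chevD4.Idx F) = chevD4.x F (chevD4.simple (([0, 1, 2, 3]).getD i 0)) t) ∧
      (((g : GL chevD4.Idx F) : Matrix chevD4.Idx chevD4.Idx F) = chevD4.x F (chevD4.neg (chevD4.simple i)) t →
        ((α g : GL chevD4.Idx F) : Matrix chevD4.Idx chevD4.Idx F) = chevD4.x F (chevD4.neg (chevD4.simple (([0, 1, 2, 3]).getD i 0))) t) :=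
  aut_of_list hA colOK hf hg hinv hw hperm (by decide +kernel)

theorem hpr : lall (fun r => Nat.beq (permRootL chevD4 [0, 1, 2, 3] r) (Tr.find (0, 0) wT r).1) (List.range 24) = true := by decide +kernel

theorem signs {F : Type*} [Field F] {η : ℕ → ℕ → ℤ} (hR : Cfsg.Agent.Lib.ChevBN.Rel.Sys chevD4 F η) (hTb : Cfsg.Agent.Lib.ChevBN.Table.Tbl chevD4)
    (π : Equiv.Perm (Fin chevD4.rank)) (hl : ∀ i : Fin chevD4.rank, ((π i : Fin chevD4.rank) : ℕ) = ([0, 1, 2, 3]).getD i.val 0)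
    (φ : ↥(chevD4.group F) ≃* ↥(chevD4.group F))
    (hφ : ∀ (g : ↥(chevD4.group F)) (i : Fin chevD4.rank) (t : F),
      (((g : GL chevD4.Idx F) : Matrix chevD4.Idx chevD4.Idx F) = chevD4.x F (chevD4.simple i) t →
        ((φ g : GL chevD4.Idx F) : Matrix chevD4.Idx chevD4.Idx F) = chevD4.x F (chevD4.simple (π i)) t) ∧
      (((g : GL chevD4.Idx F) : Matrix chevD4.Idx chevD4.Idx F) = chevD4.x F (chevD4.neg (chevD4.simple i)) t →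
        ((φ g : GL chevD4.Idx F) : Matrix chevD4.Idx chevD4.Idx F) = chevD4.x F (chevD4.neg (chevD4.simple (π i))) t))
    (r : ℕ) (hr : r < chevD4.nroots) :
    ∃ ε : F, (ε = 1 ∨ ε = -1) ∧ ∀ (g : ↥(chevD4.group F)) (t : F),
      ((g : GL chevD4.Idx F) : Matrix chevD4.Idx chevD4.Idx F) = chevD4.x F r t →
        ((φ g : GL chevD4.Idx F) : Matrix chevD4.Idx chevD4.Idx F) = chevD4.x F (chevD4.permRoot π r) (ε * t) :=
  signs_of_list hR hTb colOK hf hg hinv hw hperm hpr π hl φ hφ r hr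

end P0

namespace P1

def fT : Tr Vc := (.node 14 [⟨15, (Int.ofNat 1), 0, 0⟩] (.node 7 [⟨6, (Int.ofNat 1), 0, 0⟩] (.node 3 [⟨0, (Int.ofNat 1), 0, 0⟩] (.node 1 [⟨1, (Int.ofNat 1), 0, 0⟩] (.node 0 [⟨2, (Int.ofNat 1), 0, 0⟩] .nil .nil) (.node 2 [⟨3, (Int.ofNat 1), 0, 0⟩] .nil .nil)) (.node 5 [⟨5, (Int.ofNat 1), 0, 0⟩] (.node 4 [⟨4, (Int.ofNat 1), 0, 0⟩] .nil .nil) (.node 6 [⟨10, (Int.negSucc 0), 0, 0⟩] .nil .nil))) (.node 11 [⟨12, (Int.ofNat 1), 0, 0⟩] (.node 9 [⟨14, (Int.ofNat 1), 0, 0⟩] (.node 8 [⟨11, (Int.negSucc 0), 0, 0⟩] .nil .nil) (.node 10 [⟨7, (Int.negSucc 0), 0, 0⟩] .nil .nil)) (.node 13 [⟨13, (Int.ofNat 1), 0, 0⟩] (.node 12 [⟨8, (Int.negSucc 0), 0, 0⟩] .nil .nil) .nil))) (.node 21 [⟨24, (Int.negSucc 0), 0, 0⟩] (.node 18 [⟨18, (Int.ofNat 1), 0, 0⟩] (.node 16 [⟨22, (Int.ofNat 1), 0, 0⟩] (.node 15 [⟨9, (Int.ofNat 1), 0, 0⟩] .nil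 .nil) (.node 17 [⟨16, (Int.ofNat 1), 0, 0⟩] .nil .nil)) (.node 20 [⟨19, (Int.ofNat 1), 0, 0⟩] (.node 19 [⟨23, (Int.negSucc 0), 0, 0⟩] .nil .nil) .nil)) (.node 25 [⟨21, (Int.negSucc 0), 0, 0⟩] (.node 23 [⟨20, (Int.negSucc 0), 0, 0⟩] (.node 22 [⟨17, (Int.ofNat 1), 0, 0⟩] .nil .nil) (.node 24 [⟨25, (Int.ofNat 1), 0, 0⟩] .nil .nil)) (.node 27 [⟨27, (Int.ofNat 1), 0, 0⟩] (.node 26 [⟨26, (Int.ofNat 1), 0, 0⟩] .nil .nil) .nil))))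
def gT : Tr Vc := (.node 14 [⟨9, (Int.ofNat 1), 0, 0⟩] (.node 7 [⟨10, (Int.negSucc 0), 0, 0⟩] (.node 3 [⟨2, (Int.ofNat 1), 0, 0⟩] (.node 1 [⟨1, (Int.ofNat 1), 0, 0⟩] (.node 0 [⟨3, (Int.ofNat 1), 0, 0⟩] .nil .nil) (.node 2 [⟨0, (Int.ofNat 1), 0, 0⟩] .nil .nil)) (.node 5 [⟨5, (Int.ofNat 1), 0, 0⟩] (.node 4 [⟨4, (Int.ofNat 1), 0, 0⟩] .nil .nil) (.node 6 [⟨7, (Int.ofNat 1), 0, 0⟩] .nil .nil))) (.node 11 [⟨8, (Int.negSucc 0), 0, 0⟩] (.node 9 [⟨15, (Int.ofNat 1), 0, 0⟩] (.node 8 [⟨12, (Int.negSucc 0), 0, 0⟩] .nil .nil) (.node 10 [⟨6, (Int.negSucc 0), 0, 0⟩] .nil .nil)) (.node 13 [⟨13, (Int.ofNat 1), 0, 0⟩] (.node 12 [⟨11, (Int.ofNat 1), 0, 0⟩] .nil .nil) .nil))) (.node 21 [⟨25, (Int.negSucc 0), 0, 0⟩] (.node 18 [⟨18, (Int.ofNat 1), 0, 0⟩] (.node 16 [⟨17, (Int.ofNat 1), 0, 0⟩] (.node 15 [⟨14, (Int.ofNat 1), 0, 0⟩] .nil .nil) (.node 17 [⟨22,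 (Int.ofNat 1), 0, 0⟩] .nil .nil)) (.node 20 [⟨23, (Int.negSucc 0), 0, 0⟩] (.node 19 [⟨20, (Int.ofNat 1), 0, 0⟩] .nil .nil) .nil)) (.node 25 [⟨24, (Int.ofNat 1), 0, 0⟩] (.node 23 [⟨19, (Int.negSucc 0), 0, 0⟩] (.node 22 [⟨16, (Int.ofNat 1), 0, 0⟩] .nil .nil) (.node 24 [⟨21, (Int.negSucc 0), 0, 0⟩] .nil .nil)) (.node 27 [⟨27, (Int.ofNat 1), 0, 0⟩] (.node 26 [⟨26, (Int.ofNat 1), 0, 0⟩] .nil .nil) .nil))))
def wT : Tr (ℕ × ℤ) := (.node 12 (18, (Int.ofNat 1)) (.node 6 (3, (Int.negSucc 0)) (.node 3 (2, (Int.ofNat 1)) (.node 1 (1, (Int.ofNat 1)) (.node 0 (0, (Int.ofNat 1)) .nil .nil) (.node 2 (6, (Int.negSucc 0)) .nil .nil)) (.node 5 (10, (Int.ofNat 1)) (.node 4 (7, (Int.negSucc 0)) .nil .nil) .nil)) (.node 9 (9, (Int.ofNat 1)) (.node 8 (4, (Int.negSucc 0)) (.node 7 (8, (Int.ofNat 1)) .nil .nil) .nil) (.node 11 (5, (Int.ofNat 1)) (.node 10 (11,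 (Int.ofNat 1)) .nil .nil) .nil))) (.node 18 (13, (Int.ofNat 1)) (.node 15 (19, (Int.negSucc 0)) (.node 14 (14, (Int.ofNat 1)) (.node 13 (12, (Int.ofNat 1)) .nil .nil) .nil) (.node 17 (20, (Int.negSucc 0)) (.node 16 (15, (Int.ofNat 1)) .nil .nil) .nil)) (.node 21 (17, (Int.negSucc 0)) (.node 20 (21, (Int.ofNat 1)) (.node 19 (16, (Int.negSucc 0)) .nil .nil) .nil) (.node 23 (23, (Int.ofNat 1)) (.node 22 (22, (Int.ofNat 1)) .nil .nil) .nil))))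
def wi : Tr ℕ := (.node 12 13 (.node 6 2 (.node 3 6 (.node 1 1 (.node 0 0 .nil .nil) (.node 2 3 .nil .nil)) (.node 5 11 (.node 4 8 .nil .nil) .nil)) (.node 9 9 (.node 8 7 (.node 7 4 .nil .nil) .nil) (.node 11 10 (.node 10 5 .nil .nil) .nil))) (.node 18 12 (.node 15 16 (.node 14 14 (.node 13 18 .nil .nil) .nil) (.node 17 21 (.node 16 19 .nil .nil) .nil)) (.node 21 20 (.node 20 17 (.node 19 15 .nil .nil) .nil) (.node 23 23 (.node 22 22 .nil .nil) .nil))))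
def f (j : ℕ) : Vc := Tr.find [] fT j
def g (j : ℕ) : Vc := Tr.find [] gT j

theorem hf : scalarOK (chevD4.rank + chevD4.nroots) f = true := by decide +kernel
theorem hg : scalarOK (chevD4.rank + chevD4.nroots) g = true := by decide +kernel
theorem hinv : invCheck (chevD4.rank + chevD4.nroots) f g = true := by decide +kernel
theorem hw : rootsCheck chevD4 cols f wT wi = true := by decide +kernel
theorem hperm : lall (fun i => and (Nat.beq (Tr.find (0, 0) wT (chevD4.simple i)).1 (chevD4.simple (([2, 1, 3, 0]).getD i 0)))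
    (and (intEq (Tr.find (0, 0) wT (chevD4.simple i)).2 (Int.ofNat 1))
    (and (Nat.beq (Tr.find (0, 0) wT (chevD4.neg (chevD4.simple i))).1 (chevD4.neg (chevD4.simple (([2, 1, 3, 0]).getD i 0))))
      (intEq (Tr.find (0, 0) wT (chevD4.neg (chevD4.simple i))).2 (Int.ofNat 1))))) (List.range 4) = true := by decide +kernel

theorem aut {F : Type*} [Field F] (hA : Cfsg.Agent.Lib.ChevBN.Elem.AddRel chevD4 F) :
    ∃ α : ↥(chevD4.group F) ≃* ↥(chevD4.group F), ∀ (g : ↥(chevD4.group F)) (i : ℕ) (t : F), i < chevD4.rank →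
      (((g : GL chevD4.Idx F) : Matrix chevD4.Idx chevD4.Idx F) = chevD4.x F (chevD4.simple i) t →
        ((α g : GL chevD4.Idx F) : Matrix chevD4.Idx chevD4.Idx F) = chevD4.x F (chevD4.simple (([2, 1, 3, 0]).getD i 0)) t) ∧
      (((g : GL chevD4.Idx F) : Matrix chevD4.Idx chevD4.Idx F) = chevD4.x F (chevD4.neg (chevD4.simple i)) t →
        ((α g : GL chevD4.Idx F) : Matrix chevD4.Idx chevD4.Idx F) = chevD4.x F (chevD4.neg (chevD4.simple (([2, 1, 3, 0]).getD i 0))) t) :=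
  aut_of_list hA colOK hf hg hinv hw hperm (by decide +kernel)

theorem hpr : lall (fun r => Nat.beq (permRootL chevD4 [2, 1, 3, 0] r) (Tr.find (0, 0) wT r).1) (List.range 24) = true := by decide +kernel

theorem signs {F : Type*} [Field F] {η : ℕ → ℕ → ℤ} (hR : Cfsg.Agent.Lib.ChevBN.Rel.Sys chevD4 F η) (hTb : Cfsg.Agent.Lib.ChevBN.Table.Tbl chevD4)
    (π : Equiv.Perm (Fin chevD4.rank)) (hl : ∀ i : Fin chevD4.rank, ((π i : Fin chevD4.rank) : ℕ) = ([2, 1, 3, 0]).getD i.val 0)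
    (φ : ↥(chevD4.group F) ≃* ↥(chevD4.group F))
    (hφ : ∀ (g : ↥(chevD4.group F)) (i : Fin chevD4.rank) (t : F),
      (((g : GL chevD4.Idx F) : Matrix chevD4.Idx chevD4.Idx F) = chevD4.x F (chevD4.simple i) t →
        ((φ g : GL chevD4.Idx F) : Matrix chevD4.Idx chevD4.Idx F) = chevD4.x F (chevD4.simple (π i)) t) ∧
      (((g : GL chevD4.Idx F) : Matrix chevD4.Idx chevD4.Idx F) = chevD4.x F (chevD4.neg (chevD4.simple i)) t →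
        ((φ g : GL chevD4.Idx F) : Matrix chevD4.Idx chevD4.Idx F) = chevD4.x F (chevD4.neg (chevD4.simple (π i))) t))
    (r : ℕ) (hr : r < chevD4.nroots) :
    ∃ ε : F, (ε = 1 ∨ ε = -1) ∧ ∀ (g : ↥(chevD4.group F)) (t : F),
      ((g : GL chevD4.Idx F) : Matrix chevD4.Idx chevD4.Idx F) = chevD4.x F r t →
        ((φ g : GL chevD4.Idx F) : Matrix chevD4.Idx chevD4.Idx F) = chevD4.x F (chevD4.permRoot π r) (ε * t) :=
  signs_of_list hR hTb colOK hf hg hinv hw hperm hpr π hl φ hφ r hr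

end P1

namespace P2

def fT : Tr Vc := (.node 14 [⟨9, (Int.ofNat 1), 0, 0⟩] (.node 7 [⟨10, (Int.negSucc 0), 0, 0⟩] (.node 3 [⟨2, (Int.ofNat 1), 0, 0⟩] (.node 1 [⟨1, (Int.ofNat 1), 0, 0⟩] (.node 0 [⟨3, (Int.ofNat 1), 0, 0⟩] .nil .nil) (.node 2 [⟨0, (Int.ofNat 1), 0, 0⟩] .nil .nil)) (.node 5 [⟨5, (Int.ofNat 1), 0, 0⟩] (.node 4 [⟨4, (Int.ofNat 1), 0, 0⟩] .nil .nil) (.node 6 [⟨7, (Int.ofNat 1), 0, 0⟩] .nil .nil))) (.node 11 [⟨8, (Int.negSucc 0), 0, 0⟩] (.node 9 [⟨15, (Int.ofNat 1), 0, 0⟩] (.node 8 [⟨12, (Int.negSucc 0), 0, 0⟩] .nil .nil) (.node 10 [⟨6, (Int.negSucc 0), 0, 0⟩] .nil .nil)) (.node 13 [⟨13, (Int.ofNat 1), 0, 0⟩] (.node 12 [⟨11, (Int.ofNat 1), 0, 0⟩] .nil .nil) .nil))) (.node 21 [⟨25, (Int.negSucc 0), 0, 0⟩] (.node 18 [⟨18, (Int.ofNat 1), 0, 0⟩] (.node 16 [⟨17, (Int.ofNat 1), 0, 0⟩] (.node 15 [⟨14, (Int.ofNat 1), 0, 0⟩] .nil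 .nil) (.node 17 [⟨22, (Int.ofNat 1), 0, 0⟩] .nil .nil)) (.node 20 [⟨23, (Int.negSucc 0), 0, 0⟩] (.node 19 [⟨20, (Int.ofNat 1), 0, 0⟩] .nil .nil) .nil)) (.node 25 [⟨24, (Int.ofNat 1), 0, 0⟩] (.node 23 [⟨19, (Int.negSucc 0), 0, 0⟩] (.node 22 [⟨16, (Int.ofNat 1), 0, 0⟩] .nil .nil) (.node 24 [⟨21, (Int.negSucc 0), 0, 0⟩] .nil .nil)) (.node 27 [⟨27, (Int.ofNat 1), 0, 0⟩] (.node 26 [⟨26, (Int.ofNat 1), 0, 0⟩] .nil .nil) .nil))))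
def gT : Tr Vc := (.node 14 [⟨15, (Int.ofNat 1), 0, 0⟩] (.node 7 [⟨6, (Int.ofNat 1), 0, 0⟩] (.node 3 [⟨0, (Int.ofNat 1), 0, 0⟩] (.node 1 [⟨1, (Int.ofNat 1), 0, 0⟩] (.node 0 [⟨2, (Int.ofNat 1), 0, 0⟩] .nil .nil) (.node 2 [⟨3, (Int.ofNat 1), 0, 0⟩] .nil .nil)) (.node 5 [⟨5, (Int.ofNat 1), 0, 0⟩] (.node 4 [⟨4, (Int.ofNat 1), 0, 0⟩] .nil .nil) (.node 6 [⟨10, (Int.negSucc 0), 0, 0⟩] .nil .nil))) (.node 11 [⟨12, (Int.ofNat 1), 0, 0⟩] (.node 9 [⟨14, (Int.ofNat 1), 0, 0⟩] (.node 8 [⟨11, (Int.negSucc 0), 0, 0⟩] .nil .nil) (.node 10 [⟨7, (Int.negSucc 0), 0, 0⟩] .nil .nil)) (.node 13 [⟨13, (Int.ofNat 1), 0, 0⟩] (.node 12 [⟨8, (Int.negSucc 0), 0, 0⟩] .nil .nil) .nil))) (.node 21 [⟨24, (Int.negSucc 0), 0, 0⟩] (.node 18 [⟨18, (Int.ofNat 1), 0, 0⟩] (.node 16 [⟨22, (Int.ofNat 1), 0, 0⟩] (.node 15 [⟨9, (Int.ofNat 1), 0, 0⟩] .nil .nil) (.node 17 [⟨16,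 (Int.ofNat 1), 0, 0⟩] .nil .nil)) (.node 20 [⟨19, (Int.ofNat 1), 0, 0⟩] (.node 19 [⟨23, (Int.negSucc 0), 0, 0⟩] .nil .nil) .nil)) (.node 25 [⟨21, (Int.negSucc 0), 0, 0⟩] (.node 23 [⟨20, (Int.negSucc 0), 0, 0⟩] (.node 22 [⟨17, (Int.ofNat 1), 0, 0⟩] .nil .nil) (.node 24 [⟨25, (Int.ofNat 1), 0, 0⟩] .nil .nil)) (.node 27 [⟨27, (Int.ofNat 1), 0, 0⟩] (.node 26 [⟨26, (Int.ofNat 1), 0, 0⟩] .nil .nil) .nil))))
def wT : Tr (ℕ × ℤ) := (.node 12 (13, (Int.ofNat 1)) (.node 6 (2, (Int.negSucc 0)) (.node 3 (6, (Int.negSucc 0)) (.node 1 (1, (Int.ofNat 1)) (.node 0 (0, (Int.ofNat 1)) .nil .nil) (.node 2 (3, (Int.ofNat 1)) .nil .nil)) (.node 5 (11, (Int.ofNat 1)) (.node 4 (8, (Int.negSucc 0)) .nil .nil) .nil)) (.node 9 (9, (Int.ofNat 1)) (.node 8 (7, (Int.ofNat 1)) (.node 7 (4, (Int.negSucc 0)) .nil .nil) .nil) (.node 11 (10, (Int.ofNat 1)) (.node 10 (5,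 (Int.ofNat 1)) .nil .nil) .nil))) (.node 18 (12, (Int.ofNat 1)) (.node 15 (16, (Int.ofNat 1)) (.node 14 (14, (Int.ofNat 1)) (.node 13 (18, (Int.ofNat 1)) .nil .nil) .nil) (.node 17 (21, (Int.negSucc 0)) (.node 16 (19, (Int.negSucc 0)) .nil .nil) .nil)) (.node 21 (20, (Int.ofNat 1)) (.node 20 (17, (Int.negSucc 0)) (.node 19 (15, (Int.negSucc 0)) .nil .nil) .nil) (.node 23 (23, (Int.ofNat 1)) (.node 22 (22, (Int.ofNat 1)) .nil .nil) .nil))))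
def wi : Tr ℕ := (.node 12 18 (.node 6 3 (.node 3 2 (.node 1 1 (.node 0 0 .nil .nil) (.node 2 6 .nil .nil)) (.node 5 10 (.node 4 7 .nil .nil) .nil)) (.node 9 9 (.node 8 4 (.node 7 8 .nil .nil) .nil) (.node 11 5 (.node 10 11 .nil .nil) .nil))) (.node 18 13 (.node 15 19 (.node 14 14 (.node 13 12 .nil .nil) .nil) (.node 17 20 (.node 16 15 .nil .nil) .nil)) (.node 21 17 (.node 20 21 (.node 19 16 .nil .nil) .nil) (.node 23 23 (.node 22 22 .nil .nil) .nil))))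
def f (j : ℕ) : Vc := Tr.find [] fT j
def g (j : ℕ) : Vc := Tr.find [] gT j

theorem hf : scalarOK (chevD4.rank + chevD4.nroots) f = true := by decide +kernel
theorem hg : scalarOK (chevD4.rank + chevD4.nroots) g = true := by decide +kernel
theorem hinv : invCheck (chevD4.rank + chevD4.nroots) f g = true := by decide +kernel
theorem hw : rootsCheck chevD4 cols f wT wi = true := by decide +kernel
theorem hperm : lall (fun i => and (Nat.beq (Tr.find (0, 0) wT (chevD4.simple i)).1 (chevD4.simple (([3, 1, 0, 2]).getD i 0)))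
    (and (intEq (Tr.find (0, 0) wT (chevD4.simple i)).2 (Int.ofNat 1))
    (and (Nat.beq (Tr.find (0, 0) wT (chevD4.neg (chevD4.simple i))).1 (chevD4.neg (chevD4.simple (([3, 1, 0, 2]).getD i 0))))
      (intEq (Tr.find (0, 0) wT (chevD4.neg (chevD4.simple i))).2 (Int.ofNat 1))))) (List.range 4) = true := by decide +kernel

theorem aut {F : Type*} [Field F] (hA : Cfsg.Agent.Lib.ChevBN.Elem.AddRel chevD4 F) :
    ∃ α : ↥(chevD4.group F) ≃* ↥(chevD4.group F), ∀ (g : ↥(chevD4.group F)) (i : ℕ) (t : F), i < chevD4.rank →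
      (((g : GL chevD4.Idx F) : Matrix chevD4.Idx chevD4.Idx F) = chevD4.x F (chevD4.simple i) t →
        ((α g : GL chevD4.Idx F) : Matrix chevD4.Idx chevD4.Idx F) = chevD4.x F (chevD4.simple (([3, 1, 0, 2]).getD i 0)) t) ∧
      (((g : GL chevD4.Idx F) : Matrix chevD4.Idx chevD4.Idx F) = chevD4.x F (chevD4.neg (chevD4.simple i)) t →
        ((α g : GL chevD4.Idx F) : Matrix chevD4.Idx chevD4.Idx F) = chevD4.x F (chevD4.neg (chevD4.simple (([3, 1, 0, 2]).getD i 0))) t) :=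
  aut_of_list hA colOK hf hg hinv hw hperm (by decide +kernel)

theorem hpr : lall (fun r => Nat.beq (permRootL chevD4 [3, 1, 0, 2] r) (Tr.find (0, 0) wT r).1) (List.range 24) = true := by decide +kernel

theorem signs {F : Type*} [Field F] {η : ℕ → ℕ → ℤ} (hR : Cfsg.Agent.Lib.ChevBN.Rel.Sys chevD4 F η) (hTb : Cfsg.Agent.Lib.ChevBN.Table.Tbl chevD4)
    (π : Equiv.Perm (Fin chevD4.rank)) (hl : ∀ i : Fin chevD4.rank, ((π i : Fin chevD4.rank) : ℕ) = ([3, 1, 0, 2]).getD i.val 0)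
    (φ : ↥(chevD4.group F) ≃* ↥(chevD4.group F))
    (hφ : ∀ (g : ↥(chevD4.group F)) (i : Fin chevD4.rank) (t : F),
      (((g : GL chevD4.Idx F) : Matrix chevD4.Idx chevD4.Idx F) = chevD4.x F (chevD4.simple i) t →
        ((φ g : GL chevD4.Idx F) : Matrix chevD4.Idx chevD4.Idx F) = chevD4.x F (chevD4.simple (π i)) t) ∧
      (((g : GL chevD4.Idx F) : Matrix chevD4.Idx chevD4.Idx F) = chevD4.x F (chevD4.neg (chevD4.simple i)) t →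
        ((φ g : GL chevD4.Idx F) : Matrix chevD4.Idx chevD4.Idx F) = chevD4.x F (chevD4.neg (chevD4.simple (π i))) t))
    (r : ℕ) (hr : r < chevD4.nroots) :
    ∃ ε : F, (ε = 1 ∨ ε = -1) ∧ ∀ (g : ↥(chevD4.group F)) (t : F),
      ((g : GL chevD4.Idx F) : Matrix chevD4.Idx chevD4.Idx F) = chevD4.x F r t →
        ((φ g : GL chevD4.Idx F) : Matrix chevD4.Idx chevD4.Idx F) = chevD4.x F (chevD4.permRoot π r) (ε * t) :=
  signs_of_list hR hTb colOK hf hg hinv hw hperm hpr π hl φ hφ r hr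

end P2

namespace P3

def fT : Tr Vc := (.node 14 [⟨9, (Int.ofNat 1), 0, 0⟩] (.node 7 [⟨10, (Int.negSucc 0), 0, 0⟩] (.node 3 [⟨3, (Int.ofNat 1), 0, 0⟩] (.node 1 [⟨1, (Int.ofNat 1), 0, 0⟩] (.node 0 [⟨2, (Int.ofNat 1), 0, 0⟩] .nil .nil) (.node 2 [⟨0, (Int.ofNat 1), 0, 0⟩] .nil .nil)) (.node 5 [⟨5, (Int.ofNat 1), 0, 0⟩] (.node 4 [⟨4, (Int.ofNat 1), 0, 0⟩] .nil .nil) (.node 6 [⟨6, (Int.ofNat 1), 0, 0⟩] .nil .nil))) (.node 11 [⟨8, (Int.negSucc 0), 0, 0⟩] (.node 9 [⟨14, (Int.ofNat 1), 0, 0⟩] (.node 8 [⟨11, (Int.negSucc 0), 0, 0⟩] .nil .nil) (.node 10 [⟨7, (Int.negSucc 0), 0, 0⟩] .nil .nil)) (.node 13 [⟨13, (Int.ofNat 1), 0, 0⟩] (.node 12 [⟨12, (Int.ofNat 1), 0, 0⟩] .nil .nil) .nil))) (.node 21 [⟨24, (Int.negSucc 0), 0, 0⟩] (.node 18 [⟨18, (Int.ofNat 1), 0, 0⟩] (.node 16 [⟨16, (Int.ofNat 1), 0, 0⟩] (.node 15 [⟨15, (Int.ofNat 1), 0, 0⟩] .nil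 .nil) (.node 17 [⟨22, (Int.ofNat 1), 0, 0⟩] .nil .nil)) (.node 20 [⟨23, (Int.negSucc 0), 0, 0⟩] (.node 19 [⟨19, (Int.ofNat 1), 0, 0⟩] .nil .nil) .nil)) (.node 25 [⟨25, (Int.ofNat 1), 0, 0⟩] (.node 23 [⟨20, (Int.negSucc 0), 0, 0⟩] (.node 22 [⟨17, (Int.ofNat 1), 0, 0⟩] .nil .nil) (.node 24 [⟨21, (Int.negSucc 0), 0, 0⟩] .nil .nil)) (.node 27 [⟨27, (Int.ofNat 1), 0, 0⟩] (.node 26 [⟨26, (Int.ofNat 1), 0, 0⟩] .nil .nil) .nil))))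
def gT : Tr Vc := (.node 14 [⟨9, (Int.ofNat 1), 0, 0⟩] (.node 7 [⟨10, (Int.negSucc 0), 0, 0⟩] (.node 3 [⟨3, (Int.ofNat 1), 0, 0⟩] (.node 1 [⟨1, (Int.ofNat 1), 0, 0⟩] (.node 0 [⟨2, (Int.ofNat 1), 0, 0⟩] .nil .nil) (.node 2 [⟨0, (Int.ofNat 1), 0, 0⟩] .nil .nil)) (.node 5 [⟨5, (Int.ofNat 1), 0, 0⟩] (.node 4 [⟨4, (Int.ofNat 1), 0, 0⟩] .nil .nil) (.node 6 [⟨6, (Int.ofNat 1), 0, 0⟩] .nil .nil))) (.node 11 [⟨8, (Int.negSucc 0), 0, 0⟩] (.node 9 [⟨14, (Int.ofNat 1), 0, 0⟩] (.node 8 [⟨11, (Int.negSucc 0), 0, 0⟩] .nil .nil) (.node 10 [⟨7, (Int.negSucc 0), 0, 0⟩] .nil .nil)) (.node 13 [⟨13, (Int.ofNat 1), 0, 0⟩] (.node 12 [⟨12, (Int.ofNat 1), 0, 0⟩] .nil .nil) .nil))) (.node 21 [⟨24, (Int.negSucc 0), 0, 0⟩] (.node 18 [⟨18, (Int.ofNat 1), 0, 0⟩] (.node 16 [⟨16, (Int.ofNat 1), 0, 0⟩] (.node 15 [⟨15, (Int.ofNat 1), 0, 0⟩] .nil .nil) (.node 17 [⟨22,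 (Int.ofNat 1), 0, 0⟩] .nil .nil)) (.node 20 [⟨23, (Int.negSucc 0), 0, 0⟩] (.node 19 [⟨19, (Int.ofNat 1), 0, 0⟩] .nil .nil) .nil)) (.node 25 [⟨25, (Int.ofNat 1), 0, 0⟩] (.node 23 [⟨20, (Int.negSucc 0), 0, 0⟩] (.node 22 [⟨17, (Int.ofNat 1), 0, 0⟩] .nil .nil) (.node 24 [⟨21, (Int.negSucc 0), 0, 0⟩] .nil .nil)) (.node 27 [⟨27, (Int.ofNat 1), 0, 0⟩] (.node 26 [⟨26, (Int.ofNat 1), 0, 0⟩] .nil .nil) .nil))))
def wT : Tr (ℕ × ℤ) := (.node 12 (12, (Int.ofNat 1)) (.node 6 (3, (Int.negSucc 0)) (.node 3 (6, (Int.negSucc 0)) (.node 1 (1, (Int.ofNat 1)) (.node 0 (0, (Int.ofNat 1)) .nil .nil) (.node 2 (2, (Int.ofNat 1)) .nil .nil)) (.node 5 (10, (Int.ofNat 1)) (.node 4 (7, (Int.negSucc 0)) .nil .nil) .nil)) (.node 9 (9, (Int.ofNat 1)) (.node 8 (8, (Int.ofNat 1)) (.node 7 (4, (Int.negSucc 0)) .nil .nil) .nil) (.node 11 (11, (Int.ofNat 1)) (.node 10 (5,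 (Int.ofNat 1)) .nil .nil) .nil))) (.node 18 (13, (Int.ofNat 1)) (.node 15 (15, (Int.ofNat 1)) (.node 14 (14, (Int.ofNat 1)) (.node 13 (18, (Int.ofNat 1)) .nil .nil) .nil) (.node 17 (20, (Int.negSucc 0)) (.node 16 (19, (Int.negSucc 0)) .nil .nil) .nil)) (.node 21 (21, (Int.ofNat 1)) (.node 20 (17, (Int.negSucc 0)) (.node 19 (16, (Int.negSucc 0)) .nil .nil) .nil) (.node 23 (23, (Int.ofNat 1)) (.node 22 (22, (Int.ofNat 1)) .nil .nil) .nil))))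
def wi : Tr ℕ := (.node 12 12 (.node 6 3 (.node 3 6 (.node 1 1 (.node 0 0 .nil .nil) (.node 2 2 .nil .nil)) (.node 5 10 (.node 4 7 .nil .nil) .nil)) (.node 9 9 (.node 8 8 (.node 7 4 .nil .nil) .nil) (.node 11 11 (.node 10 5 .nil .nil) .nil))) (.node 18 13 (.node 15 15 (.node 14 14 (.node 13 18 .nil .nil) .nil) (.node 17 20 (.node 16 19 .nil .nil) .nil)) (.node 21 21 (.node 20 17 (.node 19 16 .nil .nil) .nil) (.node 23 23 (.node 22 22 .nil .nil) .nil))))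
def f (j : ℕ) : Vc := Tr.find [] fT j
def g (j : ℕ) : Vc := Tr.find [] gT j

theorem hf : scalarOK (chevD4.rank + chevD4.nroots) f = true := by decide +kernel
theorem hg : scalarOK (chevD4.rank + chevD4.nroots) g = true := by decide +kernel
theorem hinv : invCheck (chevD4.rank + chevD4.nroots) f g = true := by decide +kernel
theorem hw : rootsCheck chevD4 cols f wT wi = true := by decide +kernel
theorem hperm : lall (fun i => and (Nat.beq (Tr.find (0, 0) wT (chevD4.simple i)).1 (chevD4.simple (([2, 1, 0, 3]).getD i 0)))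
    (and (intEq (Tr.find (0, 0) wT (chevD4.simple i)).2 (Int.ofNat 1))
    (and (Nat.beq (Tr.find (0, 0) wT (chevD4.neg (chevD4.simple i))).1 (chevD4.neg (chevD4.simple (([2, 1, 0, 3]).getD i 0))))
      (intEq (Tr.find (0, 0) wT (chevD4.neg (chevD4.simple i))).2 (Int.ofNat 1))))) (List.range 4) = true := by decide +kernel

theorem aut {F : Type*} [Field F] (hA : Cfsg.Agent.Lib.ChevBN.Elem.AddRel chevD4 F) :
    ∃ α : ↥(chevD4.group F) ≃* ↥(chevD4.group F), ∀ (g : ↥(chevD4.group F)) (i : ℕ) (t : F), i < chevD4.rank →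
      (((g : GL chevD4.Idx F) : Matrix chevD4.Idx chevD4.Idx F) = chevD4.x F (chevD4.simple i) t →
        ((α g : GL chevD4.Idx F) : Matrix chevD4.Idx chevD4.Idx F) = chevD4.x F (chevD4.simple (([2, 1, 0, 3]).getD i 0)) t) ∧
      (((g : GL chevD4.Idx F) : Matrix chevD4.Idx chevD4.Idx F) = chevD4.x F (chevD4.neg (chevD4.simple i)) t →
        ((α g : GL chevD4.Idx F) : Matrix chevD4.Idx chevD4.Idx F) = chevD4.x F (chevD4.neg (chevD4.simple (([2, 1, 0, 3]).getD i 0))) t) :=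
  aut_of_list hA colOK hf hg hinv hw hperm (by decide +kernel)

theorem hpr : lall (fun r => Nat.beq (permRootL chevD4 [2, 1, 0, 3] r) (Tr.find (0, 0) wT r).1) (List.range 24) = true := by decide +kernel

theorem signs {F : Type*} [Field F] {η : ℕ → ℕ → ℤ} (hR : Cfsg.Agent.Lib.ChevBN.Rel.Sys chevD4 F η) (hTb : Cfsg.Agent.Lib.ChevBN.Table.Tbl chevD4)
    (π : Equiv.Perm (Fin chevD4.rank)) (hl : ∀ i : Fin chevD4.rank, ((π i : Fin chevD4.rank) : ℕ) = ([2, 1, 0, 3]).getD i.val 0)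
    (φ : ↥(chevD4.group F) ≃* ↥(chevD4.group F))
    (hφ : ∀ (g : ↥(chevD4.group F)) (i : Fin chevD4.rank) (t : F),
      (((g : GL chevD4.Idx F) : Matrix chevD4.Idx chevD4.Idx F) = chevD4.x F (chevD4.simple i) t →
        ((φ g : GL chevD4.Idx F) : Matrix chevD4.Idx chevD4.Idx F) = chevD4.x F (chevD4.simple (π i)) t) ∧
      (((g : GL chevD4.Idx F) : Matrix chevD4.Idx chevD4.Idx F) = chevD4.x F (chevD4.neg (chevD4.simple i)) t →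
        ((φ g : GL chevD4.Idx F) : Matrix chevD4.Idx chevD4.Idx F) = chevD4.x F (chevD4.neg (chevD4.simple (π i))) t))
    (r : ℕ) (hr : r < chevD4.nroots) :
    ∃ ε : F, (ε = 1 ∨ ε = -1) ∧ ∀ (g : ↥(chevD4.group F)) (t : F),
      ((g : GL chevD4.Idx F) : Matrix chevD4.Idx chevD4.Idx F) = chevD4.x F r t →
        ((φ g : GL chevD4.Idx F) : Matrix chevD4.Idx chevD4.Idx F) = chevD4.x F (chevD4.permRoot π r) (ε * t) :=
  signs_of_list hR hTb colOK hf hg hinv hw hperm hpr π hl φ hφ r hr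

end P3

namespace P4

def fT : Tr Vc := (.node 14 [⟨14, (Int.ofNat 1), 0, 0⟩] (.node 7 [⟨7, (Int.ofNat 1), 0, 0⟩] (.node 3 [⟨0, (Int.ofNat 1), 0, 0⟩] (.node 1 [⟨1, (Int.ofNat 1), 0, 0⟩] (.node 0 [⟨3, (Int.ofNat 1), 0, 0⟩] .nil .nil) (.node 2 [⟨2, (Int.ofNat 1), 0, 0⟩] .nil .nil)) (.node 5 [⟨5, (Int.ofNat 1), 0, 0⟩] (.node 4 [⟨4, (Int.ofNat 1), 0, 0⟩] .nil .nil) (.node 6 [⟨10, (Int.negSucc 0), 0, 0⟩] .nil .nil))) (.node 11 [⟨11, (Int.ofNat 1), 0, 0⟩] (.node 9 [⟨15, (Int.ofNat 1), 0, 0⟩] (.node 8 [⟨12, (Int.negSucc 0), 0, 0⟩] .nil .nil) (.node 10 [⟨6, (Int.negSucc 0), 0, 0⟩] .nil .nil)) (.node 13 [⟨13, (Int.ofNat 1), 0, 0⟩] (.node 12 [⟨8, (Int.negSucc 0), 0, 0⟩] .nil .nil) .nil))) (.node 21 [⟨25, (Int.negSucc 0), 0, 0⟩] (.node 18 [⟨18, (Int.ofNat 1), 0, 0⟩] (.node 16 [⟨22, (Int.ofNat 1), 0, 0⟩] (.node 15 [⟨9, (Int.ofNat 1), 0, 0⟩] .nil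 .nil) (.node 17 [⟨17, (Int.ofNat 1), 0, 0⟩] .nil .nil)) (.node 20 [⟨20, (Int.ofNat 1), 0, 0⟩] (.node 19 [⟨23, (Int.negSucc 0), 0, 0⟩] .nil .nil) .nil)) (.node 25 [⟨21, (Int.negSucc 0), 0, 0⟩] (.node 23 [⟨19, (Int.negSucc 0), 0, 0⟩] (.node 22 [⟨16, (Int.ofNat 1), 0, 0⟩] .nil .nil) (.node 24 [⟨24, (Int.ofNat 1), 0, 0⟩] .nil .nil)) (.node 27 [⟨27, (Int.ofNat 1), 0, 0⟩] (.node 26 [⟨26, (Int.ofNat 1), 0, 0⟩] .nil .nil) .nil))))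
def gT : Tr Vc := (.node 14 [⟨14, (Int.ofNat 1), 0, 0⟩] (.node 7 [⟨7, (Int.ofNat 1), 0, 0⟩] (.node 3 [⟨0, (Int.ofNat 1), 0, 0⟩] (.node 1 [⟨1, (Int.ofNat 1), 0, 0⟩] (.node 0 [⟨3, (Int.ofNat 1), 0, 0⟩] .nil .nil) (.node 2 [⟨2, (Int.ofNat 1), 0, 0⟩] .nil .nil)) (.node 5 [⟨5, (Int.ofNat 1), 0, 0⟩] (.node 4 [⟨4, (Int.ofNat 1), 0, 0⟩] .nil .nil) (.node 6 [⟨10, (Int.negSucc 0), 0, 0⟩] .nil .nil))) (.node 11 [⟨11, (Int.ofNat 1), 0, 0⟩] (.node 9 [⟨15, (Int.ofNat 1), 0, 0⟩] (.node 8 [⟨12, (Int.negSucc 0), 0, 0⟩] .nil .nil) (.node 10 [⟨6, (Int.negSucc 0), 0, 0⟩] .nil .nil)) (.node 13 [⟨13, (Int.ofNat 1), 0, 0⟩] (.node 12 [⟨8, (Int.negSucc 0), 0, 0⟩] .nil .nil) .nil))) (.node 21 [⟨25, (Int.negSucc 0), 0, 0⟩] (.node 18 [⟨18, (Int.ofNat 1), 0, 0⟩] (.node 16 [⟨22, (Int.ofNat 1), 0, 0⟩] (.node 15 [⟨9, (Int.ofNat 1), 0, 0⟩] .nil .nil) (.node 17 [⟨17,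 (Int.ofNat 1), 0, 0⟩] .nil .nil)) (.node 20 [⟨20, (Int.ofNat 1), 0, 0⟩] (.node 19 [⟨23, (Int.negSucc 0), 0, 0⟩] .nil .nil) .nil)) (.node 25 [⟨21, (Int.negSucc 0), 0, 0⟩] (.node 23 [⟨19, (Int.negSucc 0), 0, 0⟩] (.node 22 [⟨16, (Int.ofNat 1), 0, 0⟩] .nil .nil) (.node 24 [⟨24, (Int.ofNat 1), 0, 0⟩] .nil .nil)) (.node 27 [⟨27, (Int.ofNat 1), 0, 0⟩] (.node 26 [⟨26, (Int.ofNat 1), 0, 0⟩] .nil .nil) .nil))))
def wT : Tr (ℕ × ℤ) := (.node 12 (18, (Int.ofNat 1)) (.node 6 (2, (Int.negSucc 0)) (.node 3 (3, (Int.ofNat 1)) (.node 1 (1, (Int.ofNat 1)) (.node 0 (0, (Int.ofNat 1)) .nil .nil) (.node 2 (6, (Int.negSucc 0)) .nil .nil)) (.node 5 (11, (Int.ofNat 1)) (.node 4 (8, (Int.negSucc 0)) .nil .nil) .nil)) (.node 9 (9, (Int.ofNat 1)) (.node 8 (4, (Int.negSucc 0)) (.node 7 (7, (Int.ofNat 1)) .nil .nil) .nil) (.node 11 (5, (Int.ofNat 1)) (.node 10 (10,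 (Int.ofNat 1)) .nil .nil) .nil))) (.node 18 (12, (Int.ofNat 1)) (.node 15 (19, (Int.negSucc 0)) (.node 14 (14, (Int.ofNat 1)) (.node 13 (13, (Int.ofNat 1)) .nil .nil) .nil) (.node 17 (21, (Int.negSucc 0)) (.node 16 (16, (Int.ofNat 1)) .nil .nil) .nil)) (.node 21 (17, (Int.negSucc 0)) (.node 20 (20, (Int.ofNat 1)) (.node 19 (15, (Int.negSucc 0)) .nil .nil) .nil) (.node 23 (23, (Int.ofNat 1)) (.node 22 (22, (Int.ofNat 1)) .nil .nil) .nil))))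
def wi : Tr ℕ := (.node 12 18 (.node 6 2 (.node 3 3 (.node 1 1 (.node 0 0 .nil .nil) (.node 2 6 .nil .nil)) (.node 5 11 (.node 4 8 .nil .nil) .nil)) (.node 9 9 (.node 8 4 (.node 7 7 .nil .nil) .nil) (.node 11 5 (.node 10 10 .nil .nil) .nil))) (.node 18 12 (.node 15 19 (.node 14 14 (.node 13 13 .nil .nil) .nil) (.node 17 21 (.node 16 16 .nil .nil) .nil)) (.node 21 17 (.node 20 20 (.node 19 15 .nil .nil) .nil) (.node 23 23 (.node 22 22 .nil .nil) .nil))))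
def f (j : ℕ) : Vc := Tr.find [] fT j
def g (j : ℕ) : Vc := Tr.find [] gT j

theorem hf : scalarOK (chevD4.rank + chevD4.nroots) f = true := by decide +kernel
theorem hg : scalarOK (chevD4.rank + chevD4.nroots) g = true := by decide +kernel
theorem hinv : invCheck (chevD4.rank + chevD4.nroots) f g = true := by decide +kernel
theorem hw : rootsCheck chevD4 cols f wT wi = true := by decide +kernel
theorem hperm : lall (fun i => and (Nat.beq (Tr.find (0, 0) wT (chevD4.simple i)).1 (chevD4.simple (([3, 1, 2, 0]).getD i 0)))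
    (and (intEq (Tr.find (0, 0) wT (chevD4.simple i)).2 (Int.ofNat 1))
    (and (Nat.beq (Tr.find (0, 0) wT (chevD4.neg (chevD4.simple i))).1 (chevD4.neg (chevD4.simple (([3, 1, 2, 0]).getD i 0))))
      (intEq (Tr.find (0, 0) wT (chevD4.neg (chevD4.simple i))).2 (Int.ofNat 1))))) (List.range 4) = true := by decide +kernel

theorem aut {F : Type*} [Field F] (hA : Cfsg.Agent.Lib.ChevBN.Elem.AddRel chevD4 F) :
    ∃ α : ↥(chevD4.group F) ≃* ↥(chevD4.group F), ∀ (g : ↥(chevD4.group F)) (i : ℕ) (t : F), i < chevD4.rank →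
      (((g : GL chevD4.Idx F) : Matrix chevD4.Idx chevD4.Idx F) = chevD4.x F (chevD4.simple i) t →
        ((α g : GL chevD4.Idx F) : Matrix chevD4.Idx chevD4.Idx F) = chevD4.x F (chevD4.simple (([3, 1, 2, 0]).getD i 0)) t) ∧
      (((g : GL chevD4.Idx F) : Matrix chevD4.Idx chevD4.Idx F) = chevD4.x F (chevD4.neg (chevD4.simple i)) t →
        ((α g : GL chevD4.Idx F) : Matrix chevD4.Idx chevD4.Idx F) = chevD4.x F (chevD4.neg (chevD4.simple (([3, 1, 2, 0]).getD i 0))) t) :=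
  aut_of_list hA colOK hf hg hinv hw hperm (by decide +kernel)

theorem hpr : lall (fun r => Nat.beq (permRootL chevD4 [3, 1, 2, 0] r) (Tr.find (0, 0) wT r).1) (List.range 24) = true := by decide +kernel

theorem signs {F : Type*} [Field F] {η : ℕ → ℕ → ℤ} (hR : Cfsg.Agent.Lib.ChevBN.Rel.Sys chevD4 F η) (hTb : Cfsg.Agent.Lib.ChevBN.Table.Tbl chevD4)
    (π : Equiv.Perm (Fin chevD4.rank)) (hl : ∀ i : Fin chevD4.rank, ((π i : Fin chevD4.rank) : ℕ) = ([3, 1, 2, 0]).getD i.val 0)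
    (φ : ↥(chevD4.group F) ≃* ↥(chevD4.group F))
    (hφ : ∀ (g : ↥(chevD4.group F)) (i : Fin chevD4.rank) (t : F),
      (((g : GL chevD4.Idx F) : Matrix chevD4.Idx chevD4.Idx F) = chevD4.x F (chevD4.simple i) t →
        ((φ g : GL chevD4.Idx F) : Matrix chevD4.Idx chevD4.Idx F) = chevD4.x F (chevD4.simple (π i)) t) ∧
      (((g : GL chevD4.Idx F) : Matrix chevD4.Idx chevD4.Idx F) = chevD4.x F (chevD4.neg (chevD4.simple i)) t →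
        ((φ g : GL chevD4.Idx F) : Matrix chevD4.Idx chevD4.Idx F) = chevD4.x F (chevD4.neg (chevD4.simple (π i))) t))
    (r : ℕ) (hr : r < chevD4.nroots) :
    ∃ ε : F, (ε = 1 ∨ ε = -1) ∧ ∀ (g : ↥(chevD4.group F)) (t : F),
      ((g : GL chevD4.Idx F) : Matrix chevD4.Idx chevD4.Idx F) = chevD4.x F r t →
        ((φ g : GL chevD4.Idx F) : Matrix chevD4.Idx chevD4.Idx F) = chevD4.x F (chevD4.permRoot π r) (ε * t) :=
  signs_of_list hR hTb colOK hf hg hinv hw hperm hpr π hl φ hφ r hr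

end P4

namespace P5

def fT : Tr Vc := (.node 14 [⟨15, (Int.ofNat 1), 0, 0⟩] (.node 7 [⟨6, (Int.ofNat 1), 0, 0⟩] (.node 3 [⟨2, (Int.ofNat 1), 0, 0⟩] (.node 1 [⟨1, (Int.ofNat 1), 0, 0⟩] (.node 0 [⟨0, (Int.ofNat 1), 0, 0⟩] .nil .nil) (.node 2 [⟨3, (Int.ofNat 1), 0, 0⟩] .nil .nil)) (.node 5 [⟨5, (Int.ofNat 1), 0, 0⟩] (.node 4 [⟨4, (Int.ofNat 1), 0, 0⟩] .nil .nil) (.node 6 [⟨7, (Int.ofNat 1), 0, 0⟩] .nil .nil))) (.node 11 [⟨12, (Int.ofNat 1), 0, 0⟩] (.node 9 [⟨9, (Int.ofNat 1), 0, 0⟩] (.node 8 [⟨8, (Int.ofNat 1), 0, 0⟩] .nil .nil) (.node 10 [⟨10, (Int.ofNat 1), 0, 0⟩] .nil .nil)) (.node 13 [⟨13, (Int.ofNat 1), 0, 0⟩] (.node 12 [⟨11, (Int.ofNat 1), 0, 0⟩] .nil .nil) .nil))) (.node 21 [⟨21, (Int.ofNat 1), 0, 0⟩] (.node 18 [⟨18, (Int.ofNat 1), 0, 0⟩] (.node 16 [⟨17, (Int.ofNat 1), 0, 0⟩] (.node 15 [⟨14, (Int.ofNat 1), 0, 0⟩] .nil .nil) (.node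 17 [⟨16, (Int.ofNat 1), 0, 0⟩] .nil .nil)) (.node 20 [⟨19, (Int.ofNat 1), 0, 0⟩] (.node 19 [⟨20, (Int.ofNat 1), 0, 0⟩] .nil .nil) .nil)) (.node 25 [⟨24, (Int.ofNat 1), 0, 0⟩] (.node 23 [⟨23, (Int.ofNat 1), 0, 0⟩] (.node 22 [⟨22, (Int.ofNat 1), 0, 0⟩] .nil .nil) (.node 24 [⟨25, (Int.ofNat 1), 0, 0⟩] .nil .nil)) (.node 27 [⟨27, (Int.ofNat 1), 0, 0⟩] (.node 26 [⟨26, (Int.ofNat 1), 0, 0⟩] .nil .nil) .nil))))
def gT : Tr Vc := (.node 14 [⟨15, (Int.ofNat 1), 0, 0⟩] (.node 7 [⟨6, (Int.ofNat 1), 0, 0⟩] (.node 3 [⟨2, (Int.ofNat 1), 0, 0⟩] (.node 1 [⟨1, (Int.ofNat 1), 0, 0⟩] (.node 0 [⟨0, (Int.ofNat 1), 0, 0⟩] .nil .nil) (.node 2 [⟨3, (Int.ofNat 1), 0, 0⟩] .nil .nil)) (.node 5 [⟨5, (Int.ofNat 1), 0, 0⟩] (.node 4 [⟨4, (Int.ofNat 1), 0, 0⟩] .nil .nil) (.node 6 [⟨7, (Int.ofNat 1), 0, 0⟩] .nil .nil))) (.node 11 [⟨12, (Int.ofNat 1), 0, 0⟩] (.node 9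 [⟨9, (Int.ofNat 1), 0, 0⟩] (.node 8 [⟨8, (Int.ofNat 1), 0, 0⟩] .nil .nil) (.node 10 [⟨10, (Int.ofNat 1), 0, 0⟩] .nil .nil)) (.node 13 [⟨13, (Int.ofNat 1), 0, 0⟩] (.node 12 [⟨11, (Int.ofNat 1), 0, 0⟩] .nil .nil) .nil))) (.node 21 [⟨21, (Int.ofNat 1), 0, 0⟩] (.node 18 [⟨18, (Int.ofNat 1), 0, 0⟩] (.node 16 [⟨17, (Int.ofNat 1), 0, 0⟩] (.node 15 [⟨14, (Int.ofNat 1), 0, 0⟩] .nil .nil) (.node 17 [⟨16, (Int.ofNat 1), 0, 0⟩] .nil .nil)) (.node 20 [⟨19, (Int.ofNat 1), 0, 0⟩] (.node 19 [⟨20, (Int.ofNat 1), 0, 0⟩] .nil .nil) .nil)) (.node 25 [⟨24, (Int.ofNat 1), 0, 0⟩] (.node 23 [⟨23, (Int.ofNat 1), 0, 0⟩] (.node 22 [⟨22, (Int.ofNat 1), 0, 0⟩] .nil .nil) (.node 24 [⟨25, (Int.ofNat 1), 0, 0⟩] .nil .nil)) (.node 27 [⟨27, (Int.ofNat 1), 0, 0⟩] (.node 26 [⟨26, (Int.ofNat 1), 0, 0⟩] .nil .nil) .nil))))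
def wT : Tr (ℕ × ℤ) := (.node 12 (13, (Int.ofNat 1)) (.node 6 (6, (Int.ofNat 1)) (.node 3 (2, (Int.ofNat 1)) (.node 1 (1, (Int.ofNat 1)) (.node 0 (0, (Int.ofNat 1)) .nil .nil) (.node 2 (3, (Int.ofNat 1)) .nil .nil)) (.node 5 (5, (Int.ofNat 1)) (.node 4 (4, (Int.ofNat 1)) .nil .nil) .nil)) (.node 9 (9, (Int.ofNat 1)) (.node 8 (7, (Int.ofNat 1)) (.node 7 (8, (Int.ofNat 1)) .nil .nil) .nil) (.node 11 (10, (Int.ofNat 1)) (.node 10 (11, (Int.ofNat 1)) .nil .nil) .nil))) (.node 18 (18, (Int.ofNat 1)) (.node 15 (16, (Int.ofNat 1)) (.node 14 (14, (Int.ofNat 1)) (.node 13 (12, (Int.ofNat 1)) .nil .nil) .nil) (.node 17 (17, (Int.ofNat 1)) (.node 16 (15, (Int.ofNat 1)) .nil .nil) .nil)) (.node 21 (20, (Int.ofNat 1)) (.node 20 (21, (Int.ofNat 1)) (.node 19 (19, (Int.ofNat 1)) .nil .nil) .nil) (.node 23 (23, (Int.ofNat 1)) (.node 22 (22, (Int.ofNat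 1)) .nil .nil) .nil))))
def wi : Tr ℕ := (.node 12 13 (.node 6 6 (.node 3 2 (.node 1 1 (.node 0 0 .nil .nil) (.node 2 3 .nil .nil)) (.node 5 5 (.node 4 4 .nil .nil) .nil)) (.node 9 9 (.node 8 7 (.node 7 8 .nil .nil) .nil) (.node 11 10 (.node 10 11 .nil .nil) .nil))) (.node 18 18 (.node 15 16 (.node 14 14 (.node 13 12 .nil .nil) .nil) (.node 17 17 (.node 16 15 .nil .nil) .nil)) (.node 21 20 (.node 20 21 (.node 19 19 .nil .nil) .nil) (.node 23 23 (.node 22 22 .nil .nil) .nil))))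
def f (j : ℕ) : Vc := Tr.find [] fT j
def g (j : ℕ) : Vc := Tr.find [] gT j

theorem hf : scalarOK (chevD4.rank + chevD4.nroots) f = true := by decide +kernel
theorem hg : scalarOK (chevD4.rank + chevD4.nroots) g = true := by decide +kernel
theorem hinv : invCheck (chevD4.rank + chevD4.nroots) f g = true := by decide +kernel
theorem hw : rootsCheck chevD4 cols f wT wi = true := by decide +kernel
theorem hperm : lall (fun i => and (Nat.beq (Tr.find (0, 0) wT (chevD4.simple i)).1 (chevD4.simple (([0, 1, 3, 2]).getD i 0)))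
    (and (intEq (Tr.find (0, 0) wT (chevD4.simple i)).2 (Int.ofNat 1))
    (and (Nat.beq (Tr.find (0, 0) wT (chevD4.neg (chevD4.simple i))).1 (chevD4.neg (chevD4.simple (([0, 1, 3, 2]).getD i 0))))
      (intEq (Tr.find (0, 0) wT (chevD4.neg (chevD4.simple i))).2 (Int.ofNat 1))))) (List.range 4) = true := by decide +kernel

theorem aut {F : Type*} [Field F] (hA : Cfsg.Agent.Lib.ChevBN.Elem.AddRel chevD4 F) :
    ∃ α : ↥(chevD4.group F) ≃* ↥(chevD4.group F), ∀ (g : ↥(chevD4.group F)) (i : ℕ) (t : F), i < chevD4.rank →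
      (((g : GL chevD4.Idx F) : Matrix chevD4.Idx chevD4.Idx F) = chevD4.x F (chevD4.simple i) t →
        ((α g : GL chevD4.Idx F) : Matrix chevD4.Idx chevD4.Idx F) = chevD4.x F (chevD4.simple (([0, 1, 3, 2]).getD i 0)) t) ∧
      (((g : GL chevD4.Idx F) : Matrix chevD4.Idx chevD4.Idx F) = chevD4.x F (chevD4.neg (chevD4.simple i)) t →
        ((α g : GL chevD4.Idx F) : Matrix chevD4.Idx chevD4.Idx F) = chevD4.x F (chevD4.neg (chevD4.simple (([0, 1, 3, 2]).getD i 0))) t) :=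
  aut_of_list hA colOK hf hg hinv hw hperm (by decide +kernel)

theorem hpr : lall (fun r => Nat.beq (permRootL chevD4 [0, 1, 3, 2] r) (Tr.find (0, 0) wT r).1) (List.range 24) = true := by decide +kernel

theorem signs {F : Type*} [Field F] {η : ℕ → ℕ → ℤ} (hR : Cfsg.Agent.Lib.ChevBN.Rel.Sys chevD4 F η) (hTb : Cfsg.Agent.Lib.ChevBN.Table.Tbl chevD4)
    (π : Equiv.Perm (Fin chevD4.rank)) (hl : ∀ i : Fin chevD4.rank, ((π i : Fin chevD4.rank) : ℕ) = ([0, 1, 3, 2]).getD i.val 0)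
    (φ : ↥(chevD4.group F) ≃* ↥(chevD4.group F))
    (hφ : ∀ (g : ↥(chevD4.group F)) (i : Fin chevD4.rank) (t : F),
      (((g : GL chevD4.Idx F) : Matrix chevD4.Idx chevD4.Idx F) = chevD4.x F (chevD4.simple i) t →
        ((φ g : GL chevD4.Idx F) : Matrix chevD4.Idx chevD4.Idx F) = chevD4.x F (chevD4.simple (π i)) t) ∧
      (((g : GL chevD4.Idx F) : Matrix chevD4.Idx chevD4.Idx F) = chevD4.x F (chevD4.neg (chevD4.simple i)) t →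
        ((φ g : GL chevD4.Idx F) : Matrix chevD4.Idx chevD4.Idx F) = chevD4.x F (chevD4.neg (chevD4.simple (π i))) t))
    (r : ℕ) (hr : r < chevD4.nroots) :
    ∃ ε : F, (ε = 1 ∨ ε = -1) ∧ ∀ (g : ↥(chevD4.group F)) (t : F),
      ((g : GL chevD4.Idx F) : Matrix chevD4.Idx chevD4.Idx F) = chevD4.x F r t →
        ((φ g : GL chevD4.Idx F) : Matrix chevD4.Idx chevD4.Idx F) = chevD4.x F (chevD4.permRoot π r) (ε * t) :=
  signs_of_list hR hTb colOK hf hg hinv hw hperm hpr π hl φ hφ r hr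

end P5

end

end Cfsg.Agent.Lib.Chevalley.Tbl.D4
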